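import Groth.Agent.DecCurve.Vanish
import Groth.Agent.GenAt.Basic
import Groth.Agent.HilbPolyX.Section

/-!
# Sections of pure modules with bounded slopes
-/

set_option autoImplicit false
set_option linter.style.haveILetI false

universe u

open CategoryTheory CategoryTheory.Limits AlgebraicGeometry TopologicalSpace
open Groth.Agent.HilbPolyX Groth.Agent.ShStabLib

noncomputable section

namespace Groth.Agent.DecCurve

attribute [local irreducible] Curv2.euler DecSh.mult

variable {X : Scheme.{u}} (k : Type u) [Field k] [X.Over (Spec (CommRingCat.of k))]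

/-- The dimension of the space of sections. -/
abbrev h0 (F : X.Modules) : ℕ := Module.finrank k (Coh.HH X F 0)

/-- Nonzero coherent submodules have positive multiplicity. -/
def Pure1 (L F : X.Modules) : Prop :=
  ∀ (K : X.Modules) (i : K ⟶ F), Mono i → Coh.IsCoh K → ¬ IsZero K → 0 < DecSh.mult k X L K

/-- Every nonzero coherent submodule has slope at most `M`. -/
def SlopeLE (L F : X.Modules) (M : ℚ) : Prop :=
  ∀ (K : X.Modules) (i : K ⟶ F), Mono i → Coh.IsCoh K → ¬ IsZero K →
    (Curv2.euler k X K : ℚ) ≤ M * DecSh.mult k X L K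

variable [IsProper (X ↘ Spec (CommRingCat.of k))] {L : X.Modules} (hL : CohB1.IsAmple L)
  (hdim : topologicalKrullDim X ≤ 1)

theorem finite_sec {F : X.Modules} (hF : Coh.IsCoh F) :
    Module.Finite k (Coh.structureModule X ⟶ F) := by
  haveI := EulerChar.finite_HH k F hF 0
  exact Module.Finite.equiv (BC.secEquiv k F).symm

theorem h0_iso {F G : X.Modules} (e : F ≅ G) : h0 k F = h0 k G := finrank_congr k e 0

theorem h0_mono {F G : X.Modules} (i : F ⟶ G) [Mono i] (hG : Coh.IsCoh G) : h0 k F ≤ h0 k G := by
  haveI := finite_sec k hG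
  rw [h0, h0, ← (BC.secEquiv k F).finrank_eq, ← (BC.secEquiv k G).finrank_eq]
  exact LinearMap.finrank_le_finrank_of_injective (f := Linear.rightComp k (Coh.structureModule X) i)
    fun s t h => (cancel_mono i).1 h

theorem h0_add {S : ShortComplex X.Modules} (hS : S.ShortExact) (h₂ : Coh.IsCoh S.X₂)
    (h₃ : Coh.IsCoh S.X₃) : h0 k S.X₂ ≤ h0 k S.X₁ + h0 k S.X₃ := by
  haveI := finite_sec k h₂
  haveI := finite_sec k h₃
  haveI := hS.mono_f
  rw [h0, h0, h0, ← (BC.secEquiv k S.X₁).finrank_eq, ← (BC.secEquiv k S.X₂).finrank_eq,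
    ← (BC.secEquiv k S.X₃).finrank_eq]
  let f := Linear.rightComp k (Coh.structureModule X) S.f
  let g := Linear.rightComp k (Coh.structureModule X) S.g
  have hinj : Function.Injective f := fun s t h => (cancel_mono S.f).1 h
  haveI : Module.Finite k (Coh.structureModule X ⟶ S.X₁) := Module.Finite.of_injective f hinj
  rw [← g.finrank_range_add_finrank_ker, add_comm]
  refine add_le_add (le_trans ?_ (LinearMap.finrank_range_le f)) (Submodule.finrank_le _)
  refine Submodule.finrank_mono fun s hs => ?_
  obtain ⟨t, ht⟩ : ∃ t, t ≫ S.f = s :=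
    ⟨hS.exact.lift s (LinearMap.mem_ker.1 hs), hS.exact.lift_f _ _⟩
  exact ⟨t, ht⟩

include k hdim in
theorem euler_eq (F : X.Modules) :
    Curv2.euler k X F = (h0 k F : ℤ) - (Module.finrank k (Coh.HH X F 1) : ℤ) := by
  rw [EulerChar.euler_eq_sum k (t := 2) fun j hj => subsingleton_two k hdim _ hj]
  simp [Finset.sum_range_succ, sub_eq_add_neg]

include hdim in
theorem euler_le_h0 (F : X.Modules) : Curv2.euler k X F ≤ (h0 k F : ℤ) := by
  have := euler_eq k hdim F
  omega

include hdim in
theorem h0_eq_euler (F : X.Modules) (h : Subsingleton (Coh.HH X F 1)) :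
    (h0 k F : ℤ) = Curv2.euler k X F := by
  rw [euler_eq k hdim F, Module.finrank_zero_of_subsingleton]
  simp

theorem euler_congr {F G : X.Modules} (e : F ≅ G) : Curv2.euler k X F = Curv2.euler k X G :=
  EulerChar.euler_iso k e

include k hdim in
/-- A lower bound for the quotients of `O_X`. -/
theorem euler_of_epi_structureModule {I : X.Modules} (p : Coh.structureModule X ⟶ I) [Epi p] :
    -(Module.finrank k (Coh.HH X (Coh.structureModule X) 1) : ℤ) ≤ Curv2.euler k X I := by
  haveI := EulerChar.isNoetherian k (X := X)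
  haveI := EulerChar.finite_HH k (Coh.structureModule X) (ProperFin.isCoh_structureModule X) 1
  have hle : Module.finrank k (Coh.HH X I 1) ≤
      Module.finrank k (Coh.HH X (Coh.structureModule X) 1) := by
    have hsurj : Function.Surjective (CurveCoh.mapL k p 1) := fun x =>
      CohLin.exists_hMap_g_eq (BoundSS.shortExact_epi p) x
        ((subsingleton_two k hdim _ le_rfl).elim _ _)
    have h := LinearMap.finrank_range_le (CurveCoh.mapL k p 1)
    rwa [LinearMap.range_eq_top.2 hsurj, finrank_top] at h
  have := euler_eq k hdim I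
  omega

/-- `F(a)(b) ≅ F(a + b)`. -/
def twistAdd (L F : X.Modules) (a b : ℕ) :
    ShStab.twist X L (ShStab.twist X L F a) b ≅ ShStab.twist X L F (a + b) :=
  ProjTwist.tensAssoc _ _ _ ≪≫ ProjTwist.tensCongr (Iso.refl F) (powAdd L a b)

include hL hdim in
theorem mult_twist {F : X.Modules} (hF : Coh.IsCoh F) (n : ℕ) :
    DecSh.mult k X L (ShStab.twist X L F n) = DecSh.mult k X L F := by
  have h1 := euler_twist k hL hdim (isCoh_twist k hL.1 hF n) 1
  rw [euler_congr k (twistAdd L F n 1), euler_twist k hL hdim hF, euler_twist k hL hdim hF] at h1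
  push_cast at h1
  linarith

variable {A : ℕ → X.Modules} (hA : BC.IsInvSys L A)

/-- `(F ⊗ L^{-n})(n) ≅ F`. -/
def untwist (hA : BC.IsInvSys L A) (F : X.Modules) (n : ℕ) :
    ShStab.twist X L (CohB1.tensorMod F (A n)) n ≅ F :=
  ProjTwist.tensAssoc _ _ _ ≪≫ ProjTwist.tensCongr (Iso.refl F) (BC.invIso hA n) ≪≫
    ProjTwist.tensOne F

include k hA in
theorem isCoh_untwist {F : X.Modules} (hF : Coh.IsCoh F) (n : ℕ) :
    Coh.IsCoh (CohB1.tensorMod F (A n)) :=
  haveI := EulerChar.isNoetherian k (X := X)
  ProjTwist.isCoh_tensor (BoundSS.isInvertible_invSys hA n) hF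

include k hL hdim hA in
theorem pure1_untwist {F : X.Modules} (h : Pure1 k L F) (n : ℕ) :
    Pure1 k L (CohB1.tensorMod F (A n)) := by
  intro K i hi hK hK0
  haveI := BC.isEquivalence_twistF hA n
  have hz : ¬ IsZero (ShStab.twist X L K n) := fun hz => hK0
    ((IsZero.iff_id_eq_zero K).2 ((twistF L n).map_injective (hz.eq_of_src _ _)))
  rw [← mult_twist k hL hdim hK n]
  haveI hmi : Mono ((twistF L n).map i) := inferInstance
  have hmu : Mono (untwist hA F n).hom := inferInstance
  exact h (ShStab.twist X L K n) ((twistF L n).map i ≫ (untwist hA F n).hom) (@mono_comp _ _ _ _ _ _ hmi _ hmu)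
    (isCoh_twist k hL.1 hK n) hz

include k hL hdim hA in
theorem slopeLE_untwist {F : X.Modules} {M : ℚ} (h : SlopeLE k L F M) (n : ℕ) :
    SlopeLE k L (CohB1.tensorMod F (A n)) (M - n) := by
  intro K i hi hK hK0
  haveI := BC.isEquivalence_twistF hA n
  have hz : ¬ IsZero (ShStab.twist X L K n) := fun hz => hK0
    ((IsZero.iff_id_eq_zero K).2 ((twistF L n).map_injective (hz.eq_of_src _ _)))
  haveI hmi : Mono ((twistF L n).map i) := inferInstance
  have hmu : Mono (untwist hA F n).hom := inferInstance
  have h1 := h (ShStab.twist X L K n) ((twistF L n).map i ≫ (untwist hA F n).hom) (@mono_comp _ _ _ _ _ _ hmi _ hmu)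
    (isCoh_twist k hL.1 hK n) hz
  rw [mult_twist k hL hdim hK n, euler_twist k hL hdim hK] at h1
  push_cast at h1
  linarith

include k hL hdim hA in
theorem pure1_twist {F : X.Modules} (h : Pure1 k L F) (n : ℕ) :
    Pure1 k L (ShStab.twist X L F n) := by
  intro K i hi hK hK0
  haveI := BC.isEquivalence_twistF hA n
  let i' : (twistF L n).obj (CohB1.tensorMod K (A n)) ⟶ (twistF L n).obj F := (untwist hA K n).hom ≫ i
  haveI : Mono i' := inferInstanceAs (Mono ((untwist hA K n).hom ≫ i))
  haveI : Mono ((twistF L n).map ((twistF L n).preimage i')) := by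
    rw [Functor.map_preimage]; infer_instance
  have hm : Mono ((twistF L n).preimage i') := (twistF L n).mono_of_mono_map inferInstance
  have hz : ¬ IsZero (CohB1.tensorMod K (A n)) := fun hz => hK0
    (((twistF L n).map_isZero hz).of_iso (untwist hA K n).symm)
  have h1 := h _ ((twistF L n).preimage i') hm (isCoh_untwist k hA hK n) hz
  rwa [← mult_twist k hL hdim (isCoh_untwist k hA hK n) n, mult_iso k (untwist hA K n)] at h1

include k hL hdim hA in
theorem slopeLE_twist {F : X.Modules} {M : ℚ} (h : SlopeLE k L F M) (n : ℕ) :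
    SlopeLE k L (ShStab.twist X L F n) (M + n) := by
  intro K i hi hK hK0
  haveI := BC.isEquivalence_twistF hA n
  let i' : (twistF L n).obj (CohB1.tensorMod K (A n)) ⟶ (twistF L n).obj F := (untwist hA K n).hom ≫ i
  haveI : Mono i' := inferInstanceAs (Mono ((untwist hA K n).hom ≫ i))
  haveI : Mono ((twistF L n).map ((twistF L n).preimage i')) := by
    rw [Functor.map_preimage]; infer_instance
  have hm : Mono ((twistF L n).preimage i') := (twistF L n).mono_of_mono_map inferInstance
  have hz : ¬ IsZero (CohB1.tensorMod K (A n)) := fun hz => hK0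
    (((twistF L n).map_isZero hz).of_iso (untwist hA K n).symm)
  have hc := isCoh_untwist k hA hK n
  have h1 := h _ ((twistF L n).preimage i') hm hc hz
  have e1 := euler_congr k (untwist hA K n)
  rw [euler_twist k hL hdim hc] at e1
  have e2 := mult_twist k hL hdim hc n
  rw [mult_iso k (untwist hA K n)] at e2
  rw [← e2] at h1 e1
  rw [← e1]
  push_cast
  linarith

include k hdim in
/-- The points that are not closed are finitely many. -/
theorem finite_not_closed : {y : X | ¬ IsClosed ({y} : Set X)}.Finite := by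
  haveI := EulerChar.isNoetherian k (X := X)
  haveI : NoetherianSpace X := inferInstance
  refine Set.Finite.of_finite_image
    ((NoetherianSpace.finite_irreducibleComponents (α := X)).subset ?_)
    (f := fun y => closure ({y} : Set X))
    (fun a _ b _ h => (inseparable_iff_closure_eq.2 h).eq)
  rintro _ ⟨y, hy, rfl⟩
  by_contra hmax
  obtain ⟨z, hz, hzy⟩ : ∃ z ∈ closure ({y} : Set X), z ≠ y := by
    by_contra hne
    push Not at hne
    have e : closure ({y} : Set X) = {y} := subset_antisymm hne subset_closure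
    exact hy (e ▸ isClosed_closure)
  let Cy : IrreducibleCloseds X := ⟨closure {y}, isIrreducible_singleton.closure, isClosed_closure⟩
  let Cz : IrreducibleCloseds X := ⟨closure {z}, isIrreducible_singleton.closure, isClosed_closure⟩
  have hzy' : Cz < Cy := lt_of_le_of_ne (closure_minimal (Set.singleton_subset_iff.2 hz) isClosed_closure)
    fun e => hzy (inseparable_iff_closure_eq.2 (congrArg (fun C : IrreducibleCloseds X => (C : Set X)) e)).eq
  obtain ⟨C, hC, hlt⟩ : ∃ C : IrreducibleCloseds X, Cy ≤ C ∧ ¬ C ≤ Cy := by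
    by_contra hno
    push Not at hno
    refine hmax ⟨isIrreducible_singleton.closure, fun S hS hle => ?_⟩
    have := hno ⟨closure S, hS.closure, isClosed_closure⟩
      (show closure ({y} : Set X) ⊆ closure S from hle.trans subset_closure)
    exact subset_closure.trans this
  rcases Order.krullDim_le_one_iff.1 hdim Cy with h | h
  · exact hzy'.not_ge (h hzy'.le)
  · exact hlt (h hC)

include k hL in
/-- Some power of `L` has a section generating at all points which are not closed. -/
theorem exists_section (hdim : topologicalKrullDim X ≤ 1) :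
    ∃ (N : ℕ) (s : Coh.structureModule X ⟶ CohB1.tensorPow L N), 0 < N ∧
      ∀ y : X, ¬ IsClosed ({y} : Set X) → y ∈ CohB1.genLocus _ s := by
  haveI := hL.2.1
  obtain ⟨N₀, h⟩ := GenAt.exists_sections hL (GenAt.isInvertible_structureModule X)
    (finite_not_closed k hdim).toFinset
  obtain ⟨t, ht⟩ := h (N₀ + 1) N₀.le_succ
  refine ⟨N₀ + 1, t ≫ (ProjTwist.oneTens (CohB1.tensorPow L (N₀ + 1))).hom, N₀.succ_pos, fun y hy => ?_⟩
  rw [AmpleLib.genLocus_comp_iso]
  exact ht ((finite_not_closed k hdim).mem_toFinset.2 hy)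

include hL hdim in
theorem mult_eq_zero_of_dim {F : X.Modules} (hF : Coh.IsCoh F)
    (h : topologicalKrullDim ↥(CohB1.support F) ≤ 0) : DecSh.mult k X L F = 0 := by
  have h' : topologicalKrullDim ↥(CohB1.support F) < ((1 : ℕ) : WithBot ℕ∞) :=
    lt_of_le_of_lt h (by simp)
  have := coeff_eq_zero k hL.1 hF (isHilbPoly_hilb k hL hF) h' le_rfl
  rw [← mult_eq_coeff k hL hdim hF] at this
  exact_mod_cast this

omit [Field k] [X.Over (Spec (CommRingCat.of k))] [IsProper (X ↘ Spec (CommRingCat.of k))] in
/-- A closed set of closed points has dimension at most zero. -/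
theorem dim_le_zero_of_closed_points {S : Set X} (hS : IsClosed S)
    (h : ∀ y ∈ S, IsClosed ({y} : Set X)) : topologicalKrullDim ↥S ≤ 0 := by
  haveI : QuasiSober ↥S := hS.isClosedEmbedding_subtypeVal.quasiSober
  refine Order.krullDim_nonpos_iff_forall_isMax.2 fun Z₀ Z hle => ?_
  obtain ⟨η, hη⟩ := QuasiSober.sober Z.isIrreducible Z.isClosed
  have hcl : IsClosed ({η} : Set ↥S) := by
    have : ({η} : Set ↥S) = Subtype.val ⁻¹' {η.1} := by ext; simp [Subtype.ext_iff]
    rw [this]
    exact (h η.1 η.2).preimage continuous_subtype_val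
  have hZ : (Z : Set ↥S) = {η} := hη.def.symm.trans hcl.closure_eq
  obtain ⟨w, hw⟩ := Z₀.isIrreducible.1
  have hwη : w = η := (Set.ext_iff.1 hZ w).1 (hle hw)
  intro x hx
  have hxη : x = η := (Set.ext_iff.1 hZ x).1 hx
  rwa [hxη, ← hwη]

include k hL hdim in
/-- Multiplication by the section is injective on a pure module. -/
theorem mono_mulSec {N : ℕ} (s : Coh.structureModule X ⟶ CohB1.tensorPow L N)
    (hs : ∀ y : X, ¬ IsClosed ({y} : Set X) → y ∈ CohB1.genLocus _ s)
    {F : X.Modules} (hF : Coh.IsCoh F) (hp : Pure1 k L F) : Mono (mulSec F s) := by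
  haveI := EulerChar.isNoetherian k (X := X)
  have hK := isCoh_of_kernel k (mulSec F s) hF (isCoh_twist k hL.1 hF N)
  refine Preadditive.mono_of_isZero_kernel _ (by_contra fun h0 => ?_)
  have hpos := hp _ (kernel.ι (mulSec F s)) inferInstance hK h0
  have hT : ∀ y ∈ CohB1.support (kernel (mulSec F s)), IsClosed ({y} : Set X) := fun y hy => by
    by_contra hc
    refine hy (subsingleton_of_forall_eq 0 fun t => ?_)
    refine CohDev.stalk_injective (kernel.ι (mulSec F s)) y ?_
    refine (mulSec_bijective F s (hs y hc)).1 ?_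
    rw [← CohDev.stalkLin_comp_apply, kernel.condition, map_zero, map_zero,
      Omega.Stalks.stalkLin_zero]
  have := mult_eq_zero_of_dim k hL hdim hK (dim_le_zero_of_closed_points (CohDev.isClosed_support hK) hT)
  omega

end Groth.Agent.DecCurve

end
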