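import Groth.Prelude.Def_DecSh2
import Groth.Prelude.Def_TorSh
import Groth.Agent.HilbPolyX.Sheaf
import Groth.Agent.EulerChar.Torsion
import Groth.Agent.CohDev.Piece
import Mathlib.RingTheory.Ideal.MinimalPrime.Noetherian
import Mathlib.RingTheory.Ideal.MinimalPrime.Localization

/-!
# Multiplicities of coherent modules on proper schemes of dimension at most one
-/

set_option autoImplicit false
set_option linter.style.haveILetI false

universe u

open CategoryTheory CategoryTheory.Limits AlgebraicGeometry TopologicalSpace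
open Groth.Agent.HilbPolyX

noncomputable section

namespace Groth.Agent.DecCurve

attribute [local irreducible] Curv2.euler

variable {X : Scheme.{u}}

def twistZero (L F : X.Modules) : ShStab.twist X L F 0 ≅ F := ProjTwist.tensOne F

def twistOne (L F : X.Modules) : ShStab.twist X L F 1 ≅ CohB1.tensorMod F L :=
  ProjTwist.tensCongr (Iso.refl F) (ProjTwist.oneTens L)

variable (k : Type u) [Field k] [X.Over (Spec (CommRingCat.of k))]
  [IsProper (X ↘ Spec (CommRingCat.of k))] {L : X.Modules}

omit [Field k] [X.Over (Spec (CommRingCat.of k))] [IsProper (X ↘ Spec (CommRingCat.of k))] in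
theorem dim_support_le_one (hdim : topologicalKrullDim X ≤ 1) (F : X.Modules) :
    topologicalKrullDim ↥(CohB1.support F) ≤ ((1 : ℕ) : WithBot ℕ∞) := by
  exact EulerChar.dim_support_le (G := F) (by simpa using hdim)

variable (hL : CohB1.IsAmple L) (hdim : topologicalKrullDim X ≤ 1)

include hL hdim in
/-- `χ(F(m)) = χ(F) + m α(F)`. -/
theorem euler_twist {F : X.Modules} (hF : Coh.IsCoh F) (m : ℕ) :
    Curv2.euler k X (ShStab.twist X L F m) = Curv2.euler k X F + m * DecSh.mult k X L F := by
  have hle := natDegree_hilb_le k hL hF (dim_support_le_one hdim F)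
  obtain ⟨a, b, hab⟩ : ∃ a b : ℚ, hilb k L F = Polynomial.C a * Polynomial.X + Polynomial.C b :=
    Polynomial.exists_eq_X_add_C_of_natDegree_le_one hle
  have h : ∀ j : ℕ, (Curv2.euler k X (ShStab.twist X L F j) : ℚ) = a * j + b := fun j => by
    rw [isHilbPoly_hilb k hL hF j, hab]
    simp
  have h0 := h 0
  have h1 := h 1
  rw [EulerChar.euler_iso k (twistZero L F)] at h0
  rw [EulerChar.euler_iso k (twistOne L F)] at h1
  have hm := h m
  have hq : (Curv2.euler k X (ShStab.twist X L F m) : ℚ) =
      ((Curv2.euler k X F + m * DecSh.mult k X L F : ℤ) : ℚ) := by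
    rw [DecSh.mult]
    push_cast
    rw [h0, h1, hm]
    push_cast
    ring
  exact_mod_cast hq

include hL hdim in
theorem mult_eq_coeff {F : X.Modules} (hF : Coh.IsCoh F) :
    (DecSh.mult k X L F : ℚ) = (hilb k L F).coeff 1 := by
  obtain ⟨a, b, hab⟩ : ∃ a b : ℚ, hilb k L F = Polynomial.C a * Polynomial.X + Polynomial.C b :=
    Polynomial.exists_eq_X_add_C_of_natDegree_le_one
      (natDegree_hilb_le k hL hF (dim_support_le_one hdim F))
  have h0 := isHilbPoly_hilb k hL hF 0
  have h1 := isHilbPoly_hilb k hL hF 1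
  rw [EulerChar.euler_iso k (twistZero L F), hab] at h0
  rw [EulerChar.euler_iso k (twistOne L F), hab] at h1
  rw [DecSh.mult, hab]
  push_cast
  rw [h0, h1]
  simp

theorem mult_iso {F G : X.Modules} (e : F ≅ G) : DecSh.mult k X L F = DecSh.mult k X L G := by
  rw [DecSh.mult, DecSh.mult, EulerChar.euler_iso k (ProjTwist.tensCongr e (Iso.refl L)),
    EulerChar.euler_iso k e]

include hL hdim in
theorem mult_add {S : ShortComplex X.Modules} (hS : S.ShortExact) (h₁ : Coh.IsCoh S.X₁)
    (h₂ : Coh.IsCoh S.X₂) (h₃ : Coh.IsCoh S.X₃) :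
    DecSh.mult k X L S.X₂ = DecSh.mult k X L S.X₁ + DecSh.mult k X L S.X₃ := by
  have h := congrArg (fun P : Polynomial ℚ => P.coeff 1) (hilb_add k hL hS h₁ h₂ h₃)
  simp only [Polynomial.coeff_add, ← mult_eq_coeff k hL hdim h₁, ← mult_eq_coeff k hL hdim h₂,
    ← mult_eq_coeff k hL hdim h₃] at h
  exact_mod_cast h

attribute [local irreducible] DecSh.mult

include hL hdim in
theorem mult_mono {F E : X.Modules} (ι : F ⟶ E) [Mono ι] (hF : Coh.IsCoh F) (hE : Coh.IsCoh E) :
    DecSh.mult k X L E = DecSh.mult k X L F + DecSh.mult k X L (cokernel ι) :=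
  mult_add k hL hdim (shortExact_of_mono ι) hF hE (isCoh_of_monoCokernel ι hF hE)

include hL hdim in
theorem mult_epi {E G : X.Modules} (π : E ⟶ G) [Epi π] (hE : Coh.IsCoh E) (hG : Coh.IsCoh G) :
    DecSh.mult k X L E = DecSh.mult k X L (kernel π) + DecSh.mult k X L G :=
  mult_add k hL hdim (shortExact_of_epi π) (isCoh_of_kernel k π hE hG) hE hG

theorem euler_mono {F E : X.Modules} (ι : F ⟶ E) [Mono ι] (hF : Coh.IsCoh F) (hE : Coh.IsCoh E) :
    Curv2.euler k X E = Curv2.euler k X F + Curv2.euler k X (cokernel ι) :=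
  EulerChar.euler_add k (shortExact_of_mono ι) hF hE (isCoh_of_monoCokernel ι hF hE)

theorem euler_epi {E G : X.Modules} (π : E ⟶ G) [Epi π] (hE : Coh.IsCoh E) (hG : Coh.IsCoh G) :
    Curv2.euler k X E = Curv2.euler k X (kernel π) + Curv2.euler k X G :=
  EulerChar.euler_add k (shortExact_of_epi π) (isCoh_of_kernel k π hE hG) hE hG

include hL in
theorem mult_eq_zero_of_isZero {F : X.Modules} (h : IsZero F) : DecSh.mult k X L F = 0 := by
  rw [DecSh.mult, EulerChar.euler_of_isZero k h,
    EulerChar.euler_of_isZero k (CohDev.isZero_of_support_eq_empty (Set.subset_empty_iff.1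
      ((support_tensorMod_subset F L).trans (support_eq_empty_of_isZero h).le))), sub_zero]

include hL hdim in
theorem mult_pos_or_dim {F : X.Modules} (hF : Coh.IsCoh F) :
    0 < DecSh.mult k X L F ∨
      (DecSh.mult k X L F = 0 ∧ topologicalKrullDim ↥(CohB1.support F) ≤ 0) := by
  rcases (dim_support_le_one hdim F).eq_or_lt with h | h
  · left
    have := coeff_pos k hL 1 hF (isHilbPoly_hilb k hL hF) h
    rw [← mult_eq_coeff k hL hdim hF] at this
    exact_mod_cast this
  · right
    constructor
    · have := coeff_eq_zero k hL.1 hF (isHilbPoly_hilb k hL hF) h le_rfl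
      rw [← mult_eq_coeff k hL hdim hF] at this
      exact_mod_cast this
    · by_cases h0 : IsZero F
      · rw [dim_support_of_isZero h0]
        exact bot_le
      · obtain ⟨e, he⟩ := exists_dim k h0
        rw [he] at h ⊢
        have : e < 1 := by exact_mod_cast h
        simp [Nat.lt_one_iff.1 this]

include hL hdim in
theorem mult_nonneg {F : X.Modules} (hF : Coh.IsCoh F) : 0 ≤ DecSh.mult k X L F := by
  rcases mult_pos_or_dim k hL hdim hF with h | h
  · exact h.le
  · exact h.1.ge

include hL hdim in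
theorem dim_of_mult_eq_zero {F : X.Modules} (hF : Coh.IsCoh F) (h : DecSh.mult k X L F = 0) :
    topologicalKrullDim ↥(CohB1.support F) ≤ 0 :=
  ((mult_pos_or_dim k hL hdim hF).resolve_left (by omega)).2

include hL hdim in
theorem euler_nonneg {F : X.Modules} (hF : Coh.IsCoh F) (h : DecSh.mult k X L F = 0) :
    0 ≤ Curv2.euler k X F :=
  EulerChar.euler_nonneg_of_support k hF (dim_of_mult_eq_zero k hL hdim hF h)

include hL hdim in
theorem euler_pos {F : X.Modules} (hF : Coh.IsCoh F) (h : DecSh.mult k X L F = 0)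
    (h0 : ¬ IsZero F) : 0 < Curv2.euler k X F :=
  lt_of_le_of_ne (euler_nonneg k hL hdim hF h) fun e =>
    h0 (EulerChar.isZero_of_euler_eq_zero k hF (dim_of_mult_eq_zero k hL hdim hF h) e.symm)

include hL hdim in
theorem subsingleton_twist_of_mult_zero {F : X.Modules} (hF : Coh.IsCoh F)
    (h : DecSh.mult k X L F = 0) (m : ℕ) :
    Subsingleton (Coh.HH X (ShStab.twist X L F m) 1) :=
  EulerChar.subsingleton_HH_of_support k (isCoh_twist k hL.1 hF m)
    ((Topology.IsEmbedding.inclusion (support_tensorMod_subset F _)).isInducing.topologicalKrullDim_le.trans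
      (dim_of_mult_eq_zero k hL hdim hF h)) 0

omit [Field k] [X.Over (Spec (CommRingCat.of k))] [IsProper (X ↘ Spec (CommRingCat.of k))] in
/-- A closed point that is not open has a regular element in its maximal ideal. -/
theorem exists_isRegular_mem [IsNoetherian X] [AlgebraicGeometry.IsReduced X] {x : X}
    (hcl : IsClosed ({x} : Set X)) (hx : ¬ IsOpen ({x} : Set X)) :
    ∃ r ∈ IsLocalRing.maximalIdeal (X.presheaf.stalk x), IsRegular r := by
  let R := X.presheaf.stalk x
  have hgen : ∃ y : X, y ⤳ x ∧ y ≠ x := by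
    by_contra hne
    push Not at hne
    refine hx ?_
    have hfin := TopologicalSpace.NoetherianSpace.finite_irreducibleComponents (α := X)
    let S : Set (Set X) := {Z ∈ irreducibleComponents (X : Type u) | x ∉ Z}
    have hS : IsClosed (⋃₀ S) := by
      rw [Set.sUnion_eq_biUnion]
      exact (hfin.subset fun Z hZ => hZ.1).isClosed_biUnion fun Z hZ =>
        isClosed_of_mem_irreducibleComponents Z hZ.1
    have e : ({x} : Set X) = (⋃₀ S)ᶜ := by
      ext y
      constructor
      · rintro rfl ⟨Z, hZ, hyZ⟩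
        exact hZ.2 hyZ
      · intro hy
        by_contra hyx
        have hxZ : x ∈ irreducibleComponent y := by
          by_contra h
          exact hy ⟨_, ⟨irreducibleComponent_mem_irreducibleComponents y, h⟩,
            mem_irreducibleComponent⟩
        obtain ⟨η, hη⟩ := QuasiSober.sober (isIrreducible_irreducibleComponent (x := y))
          isClosed_irreducibleComponent
        have hηx : η = x := hne η (hη.specializes hxZ)
        have := hη.def
        rw [hηx, hcl.closure_eq] at this
        exact hyx (this.symm.subset (mem_irreducibleComponent (x := y)))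
    rw [e]
    exact hS.isOpen_compl
  obtain ⟨y, hyx, hne⟩ := hgen
  obtain ⟨p, hp⟩ : y ∈ Set.range (X.fromSpecStalk x) := by
    rw [Scheme.range_fromSpecStalk]
    exact hyx
  haveI : IsNoetherianRing R := inferInstanceAs (IsNoetherianRing (X.presheaf.stalk x))
  have hmin : ∀ q ∈ minimalPrimes R, ¬ IsLocalRing.maximalIdeal R ≤ q := by
    intro q hq hle
    have hq' : q.IsPrime := hq.1.1
    have hpq : p.asIdeal ≤ q := (IsLocalRing.le_maximalIdeal p.isPrime.ne_top).trans hle
    have h1 : p.asIdeal = q := hpq.antisymm (hq.2 ⟨p.isPrime, bot_le⟩ hpq)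
    have hpm : p = IsLocalRing.closedPoint R := PrimeSpectrum.ext
      (le_antisymm (IsLocalRing.le_maximalIdeal p.isPrime.ne_top) (hle.trans h1.ge))
    exact hne (by rw [← hp, hpm]; exact Scheme.fromSpecStalk_closedPoint)
  obtain ⟨r, hrm, hr⟩ : ∃ r ∈ IsLocalRing.maximalIdeal R, ∀ q ∈ minimalPrimes R, r ∉ q := by
    by_contra hcon
    push Not at hcon
    have hsub : (IsLocalRing.maximalIdeal R : Set R) ⊆ ⋃ q ∈ minimalPrimes R, (q : Set R) :=
      fun r hr => by
        obtain ⟨q, hq, hrq⟩ := hcon r hr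
        exact Set.mem_biUnion hq hrq
    obtain ⟨q, hq, hle⟩ := (Ideal.subset_union_prime_finite
      (minimalPrimes.finite_of_isNoetherianRing R) (f := fun q => q) ⊥ ⊥
      (fun q hq _ _ => hq.1.1)).1 hsub
    exact hmin q hq hle
  refine ⟨r, hrm, isRegular_iff_mem_nonZeroDivisors.2 (mem_nonZeroDivisors_iff_right.2 fun s hs => ?_)⟩
  by_contra hs0
  have : r ∈ ⋃ q ∈ (⊥ : Ideal R).minimalPrimes, (q : Set R) := by
    rw [Ideal.iUnion_minimalPrimes]
    refine ⟨s, ?_, ?_⟩
    · rwa [← show (⊥ : Ideal R) = (⊥ : Ideal R).radical from (Ideal.radical_bot_of_isReduced).symm,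
        Ideal.mem_bot]
    · rw [mul_comm, hs]
      exact zero_mem _
  simp only [Set.mem_iUnion] at this
  obtain ⟨q, hq, hrq⟩ := this
  exact hr q hq hrq

include k hL hdim in
/-- A nonzero coherent submodule of a torsion free module has positive multiplicity. -/
theorem mult_pos_of_torsionFree [AlgebraicGeometry.IsReduced X]
    (hpure : ∀ x : X, ¬ IsOpen ({x} : Set X)) {F E : X.Modules} (htf : TorSh.IsTorsionFree E)
    (ι : F ⟶ E) [Mono ι] (hF : Coh.IsCoh F) (h0 : ¬ IsZero F) : 0 < DecSh.mult k X L F := by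
  haveI := EulerChar.isNoetherian k (X := X)
  rcases mult_pos_or_dim k hL hdim hF with h | ⟨-, h⟩
  · exact h
  exfalso
  obtain ⟨y, hy⟩ := CohDev.exists_assoc hF h0
  have hcl : IsClosed ({y} : Set X) :=
    (EulerChar.isClosed_of_subset_support k hF h
      (Set.singleton_subset_iff.2 (CohDev.mem_support_of_assoc hy))).1
  obtain ⟨r, hrm, hr⟩ := exists_isRegular_mem hcl (hpure y)
  obtain ⟨t, ht, hrt⟩ := CohDev.assoc_of_mono ι hy
  haveI := htf y
  exact ht (hr.smul_eq_zero_iff_right.1 (hrt r hrm))

end Groth.Agent.DecCurve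

end
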