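import Groth.Agent.S6295
import Groth.Agent.DecCurve.Basic

/-!
# Germs of sections of torsion free modules on reduced noetherian schemes
-/

set_option autoImplicit false
set_option linter.style.haveILetI false

universe u

open CategoryTheory AlgebraicGeometry TopologicalSpace
open Groth.Agent.PullStalk.Sky

noncomputable section

namespace Groth.Agent.DecCurve

variable {X : Scheme.{u}}

/-- A section of a torsion free module vanishes at `z` if it vanishes at the generic points above `z`. -/
theorem germ_eq_zero_of_generic [IsLocallyNoetherian X] [AlgebraicGeometry.IsReduced X] (F : X.Modules)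
    [F.IsQuasicoherent] (htf : TorSh.IsTorsionFree F) {V : X.Opens} (hV : IsAffineOpen V) {z : X}
    (hz : z ∈ V) (m : Γ(F, V))
    (h : ∀ (y : X) (hy : y ∈ V), IsField (X.presheaf.stalk y) → y ⤳ z → germM F V y hy m = 0) :
    germM F V z hz m = 0 := by
  letI := TopCat.Presheaf.algebra_section_stalk X.presheaf (⟨z, hz⟩ : V)
  haveI := hV.isLocalization_stalk ⟨z, hz⟩
  haveI : _root_.IsReduced Γ(X, V) := inferInstance
  let R := X.presheaf.stalk z
  haveI : IsNoetherianRing R := inferInstanceAs (IsNoetherianRing (X.presheaf.stalk z))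
  haveI : _root_.IsReduced R := inferInstanceAs (_root_.IsReduced (X.presheaf.stalk z))
  obtain ⟨-, -, h6⟩ := S6295.result R
  have key : ∀ q' ∈ minimalPrimes R, ∃ r ∉ q', r • germM F V z hz m = 0 := by
    intro q' hq'
    let q := q'.comap (algebraMap Γ(X, V) R)
    have hq : q ∈ minimalPrimes Γ(X, V) := by
      have e := IsLocalization.minimalPrimes_map (hV.primeIdealOf ⟨z, hz⟩).asIdeal.primeCompl R
        (⊥ : Ideal Γ(X, V))
      rw [Ideal.map_bot] at e
      exact (Set.ext_iff.1 e q').1 hq'
    haveI hqp : q.IsPrime := hq.1.1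
    let p : PrimeSpectrum Γ(X, V) := ⟨q, hqp⟩
    let y : X := hV.fromSpec p
    have hy : y ∈ V := hV.range_fromSpec.le ⟨p, rfl⟩
    have hyq : (hV.primeIdealOf ⟨y, hy⟩).asIdeal = q :=
      congrArg PrimeSpectrum.asIdeal
        (hV.fromSpec.isOpenEmbedding.injective (hV.fromSpec_primeIdealOf ⟨y, hy⟩))
    have hle : q ≤ (hV.primeIdealOf ⟨z, hz⟩).asIdeal := by
      intro a ha
      by_contra hn
      exact hq'.1.1.ne_top (Ideal.eq_top_of_isUnit_mem _ ha
        (IsLocalization.map_units R (⟨a, hn⟩ : (hV.primeIdealOf ⟨z, hz⟩).asIdeal.primeCompl)))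
    have hyz : y ⤳ z := by
      have := ((PrimeSpectrum.le_iff_specializes p (hV.primeIdealOf ⟨z, hz⟩)).1 hle).map
        hV.fromSpec.continuous
      rwa [hV.fromSpec_primeIdealOf ⟨z, hz⟩] at this
    have hfield : IsField (X.presheaf.stalk y) := by
      have h1 := (S6295.result Γ(X, V)).1 p hq
      letI := TopCat.Presheaf.algebra_section_stalk X.presheaf (⟨y, hy⟩ : V)
      haveI := hV.isLocalization_stalk ⟨y, hy⟩
      haveI : IsLocalization.AtPrime (X.presheaf.stalk y) p.asIdeal :=
        IsLocalization.isLocalization_of_is_exists_mul_mem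
          (M := (hV.primeIdealOf ⟨y, hy⟩).asIdeal.primeCompl) _ _
          (fun a ha => by
            change a ∉ q
            rwa [← hyq]) fun a => ⟨1, by
            show 1 * (a : Γ(X, V)) ∉ (hV.primeIdealOf ⟨y, hy⟩).asIdeal
            rw [one_mul, hyq]
            exact a.2⟩
      exact MulEquiv.isField h1
        (IsLocalization.algEquiv p.asIdeal.primeCompl (X.presheaf.stalk y)
          (Localization.AtPrime p.asIdeal)).toMulEquiv
    obtain ⟨s, hs, hsm⟩ := CycLib.exists_smul_eq_zero_of_germ_eq_zero F hV hy m (h y hy hfield hyz)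
    have hs' := (CycLib.not_mem_primeIdealOf_iff hV hy s).mpr hs
    rw [hyq] at hs'
    refine ⟨algebraMap Γ(X, V) R s, hs', ?_⟩
    change X.presheaf.germ V z hz s • germM F V z hz m = 0
    rw [← germM_smul, hsm]
    exact map_zero (F.presheaf.germ V z hz).hom
  obtain ⟨r, hr0, hr⟩ : ∃ r : R, r • germM F V z hz m = 0 ∧ ∀ q ∈ minimalPrimes R, r ∉ q := by
    let J : Ideal R := LinearMap.ker (LinearMap.toSpanSingleton R _ (germM F V z hz m))
    by_contra hcon
    push Not at hcon
    have hsub : (J : Set R) ⊆ ⋃ q ∈ minimalPrimes R, (q : Set R) := fun r hr => by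
      obtain ⟨q, hq, hrq⟩ := hcon r (by simpa [J] using hr)
      exact Set.mem_biUnion hq hrq
    obtain ⟨q, hq, hle⟩ := (Ideal.subset_union_prime_finite
      (minimalPrimes.finite_of_isNoetherianRing R) (f := fun q => q) ⊥ ⊥
      (fun q hq _ _ => hq.1.1)).1 hsub
    obtain ⟨r, hr, hr0⟩ := key q hq
    exact hr (hle (by simpa [J] using hr0))
  have hreg : IsRegular r := isRegular_iff_mem_nonZeroDivisors.2 (by
    by_contra hn
    obtain ⟨q, hq, hrq⟩ := (h6 r).1 hn
    exact hr q hq hrq)
  haveI := htf z
  exact hreg.smul_eq_zero_iff_right.1 hr0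

/-- A section of a torsion free module whose germs at all generic points vanish is zero. -/
theorem section_eq_zero_of_generic [IsLocallyNoetherian X] [AlgebraicGeometry.IsReduced X] (F : X.Modules)
    [F.IsQuasicoherent] (htf : TorSh.IsTorsionFree F) {U : X.Opens} (s : Γ(F, U))
    (h : ∀ (y : X) (hy : y ∈ U), IsField (X.presheaf.stalk y) → germM F U y hy s = 0) : s = 0 := by
  refine TopCat.Presheaf.section_ext (⟨F.presheaf, F.isSheaf⟩ : TopCat.Sheaf AddCommGrpCat X)
    U s 0 fun z hz => ?_
  obtain ⟨V, hV, hzV, hVU⟩ := exists_isAffineOpen_mem_and_subset (X := X) hz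
  have e : ∀ (y : X) (hy : y ∈ V), germM F V y hy (F.presheaf.map (homOfLE hVU).op s) =
      germM F U y (hVU hy) s := fun y hy => F.presheaf.germ_res_apply _ y hy s
  have h1 := germ_eq_zero_of_generic F htf hV hzV (F.presheaf.map (homOfLE hVU).op s)
    fun y hy hf _ => (e y hy).trans (h y (hVU hy) hf)
  exact ((e z hzV).symm.trans h1).trans (map_zero _).symm

end Groth.Agent.DecCurve

end
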