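import Groth.Prelude.Def_LCI2
import Groth.Agent.ProjMorph.Ample
import Groth.Agent.ProperFin.PnBase
import Groth.Agent.GrModLib.TwistInt
import Groth.Agent.EulerFam.RegBounded
import Groth.Agent.TwistFlat.Pn
import Groth.Agent.ShStabLib.BaseChangeField
import Groth.Agent.ZClosLib.CohDescent
import Groth.Agent.AmpleLib.GenIso
import Groth.Agent.EulerChar.AmpleCurve
import Groth.Agent.DecCurve.Basic

/-!
# Boundedness from uniform vanishing
-/

set_option autoImplicit false
set_option linter.style.haveILetI false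

universe u

open CategoryTheory CategoryTheory.Limits AlgebraicGeometry

noncomputable section

namespace Groth.Agent.DecCurve

attribute [local irreducible] Curv2.euler DecSh.mult

variable (k : Type u) [Field k] {X : Scheme.{u}} [X.Over (Spec (CommRingCat.of k))]
  [IsProper (X ↘ Spec (CommRingCat.of k))]

theorem exists_embedding {L : X.Modules} (hL : CohB1.IsAmple L) :
    ∃ (N n : ℕ) (ι : X ⟶ CohB1.ProjSpace n k), 0 < N ∧ IsClosedImmersion ι ∧
      ι ≫ CohB1.ProjSpace.toSpec n k = X ↘ Spec (CommRingCat.of k) ∧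
      Nonempty (CohB1.tensorPow L N ≅ (Scheme.Modules.pullback ι).obj (Twist.twistProjSpace n k 1)) := by
  obtain ⟨n₀, hn₀⟩ := ProjMorph.eventually_veryAmplePn_pow (X ↘ Spec (CommRingCat.of k)) hL
  obtain ⟨n, i, hi, hif, ⟨eL⟩⟩ := hn₀ (n₀ + 1) n₀.le_succ
  let φ : ULift.{u} ℤ →+* k := (Int.castRingHom k).comp (ULift.ringEquiv.toRingHom)
  have hf : specULiftZIsTerminal.from (Spec (CommRingCat.of k)) =
      Spec.map (CommRingCat.ofHom φ) := specULiftZIsTerminal.hom_ext _ _
  have h : IsPullback (ProperFin.pnMap n φ) (CohB1.ProjSpace.toSpec n k)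
      (CohB1.ProjSpace.toSpec n (ULift.{u} ℤ))
      (specULiftZIsTerminal.from (Spec (CommRingCat.of k))) := by
    rw [hf]
    exact ProperFin.isPullback_pnMap n φ
  let j : CohB1.ProjSpace n k ≅ CohB1.ProjSpaceOver n (Spec (CommRingCat.of k)) := h.isoPullback
  have hjs : j.inv ≫ CohB1.ProjSpace.toSpec n k = pullback.snd _ _ := h.isoPullback_inv_snd
  have hjf : j.hom ≫ pullback.fst _ _ = ProperFin.pnMap n φ := h.isoPullback_hom_fst
  let ι : X ⟶ CohB1.ProjSpace n k := i ≫ j.inv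
  have hι : ι ≫ CohB1.ProjSpace.toSpec n k = X ↘ Spec (CommRingCat.of k) := by
    show (i ≫ j.inv) ≫ _ = _
    rw [Category.assoc, hjs]
    exact hif
  haveI := hi
  haveI : IsImmersion ι := by
    haveI : IsImmersion j.inv := inferInstance
    exact inferInstanceAs (IsImmersion (i ≫ j.inv))
  haveI : IsProper (ι ≫ CohB1.ProjSpace.toSpec n k) := by rw [hι]; infer_instance
  haveI : IsSeparated (CohB1.ProjSpace.toSpec n k) := by
    show IsSeparated (Proj.toSpecZero _ ≫ _)
    infer_instance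
  haveI : IsProper ι := IsProper.of_comp ι (CohB1.ProjSpace.toSpec n k)
  haveI : IsClosedImmersion ι := IsClosedImmersion.of_isPreimmersion ι ι.isClosedMap.isClosed_range
  refine ⟨n₀ + 1, n, ι, n₀.succ_pos, inferInstance, hι, ⟨?_⟩⟩
  let e₁ : Twist.twistProjSpace n k 1 ≅
      (Scheme.Modules.pullback j.hom).obj (Twist.twistOver n (Spec (CommRingCat.of k)) 1) :=
    (GrModLib.nonempty_pullback_twist_int n φ 1).some.symm ≪≫
      ((Scheme.Modules.pullbackCongr hjf).symm ≪≫
        (Scheme.Modules.pullbackComp _ _).symm).app _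
  exact eL ≪≫ ((Scheme.Modules.pullbackCongr
        (show i = ι ≫ j.hom by simp [ι])).app _ ≪≫
      ((Scheme.Modules.pullbackComp _ _).symm).app _ ≪≫
      (Scheme.Modules.pullback ι).mapIso e₁.symm)

theorem tensorPow_congr {L L' : X.Modules} (e : L ≅ L') :
    ∀ d : ℕ, Nonempty (CohB1.tensorPow L d ≅ CohB1.tensorPow L' d)
  | 0 => ⟨Iso.refl _⟩
  | d + 1 => (tensorPow_congr e d).map fun φ => ProjTwist.tensCongr φ e

theorem finrank_congr {A B : X.Modules} (e : A ≅ B) (i : ℕ) :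
    Module.finrank k (Coh.HH X A i) = Module.finrank k (Coh.HH X B i) :=
  by
    have h : ∀ {M N : X.Modules} (e : M ≅ N) (x : Coh.HH X M i),
        CurveCoh.mapL k e.inv i (CurveCoh.mapL k e.hom i x) = x := fun {M N} e x => by
      show Sheaf.H.map _ i (Sheaf.H.map _ i x) = x
      rw [← Sheaf.H.map_comp_apply, ← Functor.map_comp, e.hom_inv_id,
        CategoryTheory.Functor.map_id, Sheaf.H.map_id_apply]
    exact LinearEquiv.finrank_eq (LinearEquiv.ofBijective (CurveCoh.mapL k e.hom i)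
      ⟨fun x y hxy => (h e x).symm.trans ((congrArg _ hxy).trans (h e y)),
        fun y => ⟨_, h e.symm y⟩⟩)

include k in
/-- Cohomology in degrees at least two vanishes. -/
theorem subsingleton_two (hdim : topologicalKrullDim X ≤ 1) (M : X.Modules) {j : ℕ} (hj : 2 ≤ j) :
    Subsingleton (Coh.HH X M j) :=
  haveI := EulerChar.isNoetherian k (X := X)
  haveI : TopologicalSpace.NoetherianSpace X.toTopCat :=
    inferInstanceAs (TopologicalSpace.NoetherianSpace X)
  CohTop.Vanishing.grothendieck_vanishing (X := X.toTopCat) 1 hdim (Coh.toAb M) j hj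

variable {L : X.Modules}

/-- A family with fixed numerical invariants and uniformly vanishing `H¹` is bounded. -/
theorem isBounded_of_vanish (hL : CohB1.IsAmple L) (hdim : topologicalKrullDim X ≤ 1)
    (P : X.Modules → Prop) (α e : ℤ) (m₀ : ℕ)
    (hP : ∀ F, P F → Coh.IsCoh F ∧ DecSh.mult k X L F = α ∧ Curv2.euler k X F = e ∧
      ∀ m, m₀ ≤ m → Subsingleton (Coh.HH X (ShStab.twist X L F m) 1)) :
    Pic13.IsBounded k X P := by
  classical
  haveI := EulerChar.isNoetherian k (X := X)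
  obtain ⟨N, n, ι, hN, hclosed, hι, ⟨eL⟩⟩ := exists_embedding k hL
  have htw : ∀ (E : X.Modules) (d : ℕ),
      Nonempty (Pic13.twistOn k ι E (d : ℤ) ≅ ShStab.twist X L E (N * d)) := by
    intro E d
    obtain ⟨e1⟩ := TwistFlat.nonempty_tensorPow_twist n k d
    obtain ⟨e2⟩ := ShStabLib.pullback_tensorPow ι (Twist.twistProjSpace n k 1) d
    obtain ⟨e3⟩ := tensorPow_congr eL d
    obtain ⟨e4, -⟩ := AmpleLib.exists_iso_tensorPow_mul hL.1 N d
    exact ⟨ProjTwist.tensCongr (Iso.refl E)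
      ((Scheme.Modules.pullback ι).mapIso e1.symm ≪≫ e2 ≪≫ e3.symm ≪≫ e4)⟩
  let p : ℕ := (e + ((N * (m₀ + 1) : ℕ) : ℤ) * α).toNat
  let m : ℤ := ((m₀ + 1 : ℕ) : ℤ)
  let B := ∐ fun _ : Fin p => Twist.twistProjSpace n k (-m)
  let A := ∐ fun _ : Fin (ProjTwist.Pn.h0Tw B (m + 1)) => Twist.twistProjSpace n k (-(m + 1))
  have hB : Coh.IsCoh B := ProjTwist.Pn.isCoh_sum _ fun _ =>
    ProjTwist.Pn.isCoh_twistProjSpace n k _
  have hA : Coh.IsCoh A := ProjTwist.Pn.isCoh_sum _ fun _ =>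
    ProjTwist.Pn.isCoh_twistProjSpace n k _
  obtain ⟨T, q, hft, hqc, U, hU, hfib⟩ := EulerFam.isBounded_cokernel (k := k) (X := X)
    (ZClosLib.CohDescent.isCoh_pullback ι A hA) (ZClosLib.CohDescent.isCoh_pullback ι B hB)
  refine ⟨T, q, hft, hqc, U, hU, fun E hE => hfib E ?_⟩
  obtain ⟨hEc, hα, he, hvan⟩ := hP E hE
  have : Coh.IsQCoh E := hEc.1
  have hmul : m₀ ≤ N * m₀ := Nat.le_mul_of_pos_left _ hN
  have hreg : Pic13.IsMRegular k ι E m := fun j hj => by
    rcases Nat.eq_or_lt_of_le hj with rfl | hj2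
    · obtain ⟨e⟩ := htw E m₀
      rw [show m - ((1 : ℕ) : ℤ) = (m₀ : ℤ) by simp [m]]
      have := hvan _ hmul
      exact (CohLin.hIso e 1).toEquiv.subsingleton
    · exact subsingleton_two k hdim _ hj2
  refine EulerFam.exists_iso_cokernel ι hEc hreg (p := p) ?_
  have hG : Coh.IsCoh ((Coh.push ι).obj E) := ProperFin.isCoh_push_of_isFinite ι E hEc
  have h0 := EulerFam.h0Tw_eq_chi hG (CMReg.isMRegular_push ι hreg)
  have h1 : (ProjTwist.Pn.h0Tw ((Coh.push ι).obj E) m : ℤ) =
      Curv2.euler k X (ShStab.twist X L E (N * (m₀ + 1))) := by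
    obtain ⟨e'⟩ := htw E (m₀ + 1)
    have hv := hvan (N * (m₀ + 1)) (hmul.trans (Nat.mul_le_mul_left _ m₀.le_succ))
    rw [EulerChar.euler_eq_sum k (t := 1) fun j hj => by
      rcases Nat.eq_or_lt_of_le hj with rfl | hj2
      · exact hv
      · exact subsingleton_two k hdim _ hj2,
      Finset.sum_range_one, pow_zero, one_mul, ProjTwist.Pn.h0Tw,
      ← CMReg.finrank_twistOn ι hι E m 0]
    exact congrArg Nat.cast ((finrank_congr k e' 0))
  show (((e + ((N * (m₀ + 1) : ℕ) : ℤ) * α).toNat : ℕ) : ℤ) = _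
  rw [← h0, h1, euler_twist k hL hdim hEc, hα, he]
  refine Int.toNat_of_nonneg ?_
  rw [← he, ← hα, ← euler_twist k hL hdim hEc, ← h1]
  exact Int.natCast_nonneg _

end Groth.Agent.DecCurve

end
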