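import Groth.Agent.DecCurve.Gam

/-!
# One-step filtrations
-/

set_option autoImplicit false

universe u

open CategoryTheory CategoryTheory.Limits AlgebraicGeometry

noncomputable section

namespace Groth.Agent.DecCurve

attribute [local irreducible] DecSh.mult Curv2.euler

variable {X : Scheme.{u}} (k : Type u) [Field k] [X.Over (Spec (CommRingCat.of k))]
  [IsProper (X ↘ Spec (CommRingCat.of k))] [AlgebraicGeometry.IsReduced X] {L : X.Modules}
  (hL : CohB1.IsAmple L) (hdim : topologicalKrullDim X ≤ 1) (hpure : ∀ x : X, ¬ IsOpen ({x} : Set X))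

/-- The one-step filtration of a monomorphism. -/
def singleMk {E F : X.Modules} (ι : F ⟶ E) [Mono ι] (hF0 : ¬ IsZero F) (hι : ¬ IsIso ι) :
    DecSh.WFilt E :=
  DecSh.WFilt.single (Subobject.mk ι) (fun h => hι ((Subobject.isIso_iff_mk_eq_top ι).2 h))
    (fun h => hF0 (h.of_iso (Subobject.underlyingIso ι).symm))

theorem singleMk_piece {E F : X.Modules} (ι : F ⟶ E) [Mono ι] (hF0 : ¬ IsZero F) (hι : ¬ IsIso ι)
    (i : Fin (singleMk ι hF0 hι).t) : (singleMk ι hF0 hι).piece i = Subobject.mk ι := rfl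

include hL hdim hpure in
theorem mu_single_lower {E F : X.Modules} (hE : Coh.IsCoh E) (htf : TorSh.IsTorsionFree E)
    (ι : F ⟶ E) [Mono ι] (hF : Coh.IsCoh F) (hF0 : ¬ IsZero F) (hι : ¬ IsIso ι)
    {D : X.Modules} {a b : ℕ} (T : DecSh.TF E a b D) :
    (a : ℚ) * ((DecSh.mult k X L F : ℚ) - DecSh.mult k X L E) ≤ T.mu k L (singleMk ι hF0 hι) := by
  have h := Gam.mu_lower (singleMk ι hF0 hι) (DecSh.mult k X L E)
    (fun P => DecSh.mult k X L (P : X.Modules)) (piece_bounds k hL hdim hpure hE htf _ fun _ =>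
      CohDev.isCoh_of_iso (Subobject.underlyingIso ι).symm hF) T.nv
  simp only [singleMk_piece, mult_iso k (Subobject.underlyingIso ι)] at h
  change (a : ℚ) * ∑ i : Fin 1, (1 : ℚ) * _ ≤ _ at h
  simpa [DecSh.TF.mu] using h

include hL hdim hpure in
theorem semistable_bound {E : X.Modules} (hE : Coh.IsCoh E) (htf : TorSh.IsTorsionFree E)
    {D : X.Modules} {a b : ℕ} (T : DecSh.TF E a b D) {δ : ℚ} (hδ : 0 < δ)
    (hT : T.IsSemistable k L δ) {F : X.Modules} (ι : F ⟶ E) [Mono ι] (hF : Coh.IsCoh F)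
    (hF0 : ¬ IsZero F) (hι : ¬ IsIso ι) :
    (DecSh.mult k X L E : ℚ) * (Curv2.euler k X F : ℚ) -
        (DecSh.mult k X L F : ℚ) * (Curv2.euler k X E : ℚ) ≤
      δ * (a : ℚ) * ((DecSh.mult k X L E : ℚ) - (DecSh.mult k X L F : ℚ)) := by
  have hc : ∀ i, Coh.IsCoh (((singleMk ι hF0 hι).piece i : Subobject E) : X.Modules) :=
    fun _ => CohDev.isCoh_of_iso (Subobject.underlyingIso ι).symm hF
  have h := hT (singleMk ι hF0 hι) hc
  have hμ := mu_single_lower k hL hdim hpure hE htf ι hF hF0 hι T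
  have hs : (singleMk ι hF0 hι).chiSum k L = (DecSh.mult k X L E : ℚ) * (Curv2.euler k X F : ℚ) -
        (DecSh.mult k X L F : ℚ) * (Curv2.euler k X E : ℚ) := by
    rw [DecSh.WFilt.chiSum, DecSh.WFilt.msum]
    simp only [singleMk_piece, mult_iso k (Subobject.underlyingIso ι),
      EulerChar.euler_iso k (Subobject.underlyingIso ι)]
    show ∑ i : Fin 1, (1 : ℚ) * _ = _
    simp
  change (singleMk ι hF0 hι).chiSum k L + δ * T.mu k L (singleMk ι hF0 hι) ≤ 0 at h
  rw [hs] at h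
  nlinarith [mul_le_mul_of_nonneg_left hμ hδ.le]

end Groth.Agent.DecCurve

end
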