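import Groth.Agent.DecCurve.Sectional
import Groth.Agent.DecCurve.Slope

/-!
# Uniform estimates for decorated modules
-/

set_option autoImplicit false
set_option linter.style.haveILetI false

universe u

open CategoryTheory CategoryTheory.Limits AlgebraicGeometry TopologicalSpace
open Groth.Agent.HilbPolyX Groth.Agent.ShStabLib

noncomputable section

namespace Groth.Agent.DecCurve

attribute [local irreducible] Curv2.euler DecSh.mult

variable {X : Scheme.{u}} (k : Type u) [Field k] [X.Over (Spec (CommRingCat.of k))]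

theorem Pure1.of_mono {L F K : X.Modules} (h : Pure1 k L F) (i : K ⟶ F) [Mono i] : Pure1 k L K :=
  fun J j _ hJ hJ0 => h J (j ≫ i) (mono_comp j i) hJ hJ0

theorem SlopeLE.of_mono {L F K : X.Modules} {M : ℚ} (h : SlopeLE k L F M) (i : K ⟶ F) [Mono i] :
    SlopeLE k L K M :=
  fun J j _ hJ hJ0 => h J (j ≫ i) (mono_comp j i) hJ hJ0

variable [IsProper (X ↘ Spec (CommRingCat.of k))] {L : X.Modules} (hL : CohB1.IsAmple L)
  (hdim : topologicalKrullDim X ≤ 1)

include k hL in
theorem shortExact_twist {S : ShortComplex X.Modules} (hS : S.ShortExact) (m : ℕ) :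
    (S.map (twistF L m)).ShortExact :=
  ProjTwist.shortExact_tensor (AmpleLib.isInvertible_tensorPow hL.1 m) hS

include k hL hdim in
theorem pure1_of_torsionFree [AlgebraicGeometry.IsReduced X]
    (hpure : ∀ x : X, ¬ IsOpen ({x} : Set X)) {F : X.Modules} (htf : TorSh.IsTorsionFree F) :
    Pure1 k L F :=
  fun _ i _ hK hK0 => mult_pos_of_torsionFree k hL hdim hpure htf i hK hK0

include k hL hdim in
theorem slopeLE_of_semistable [AlgebraicGeometry.IsReduced X]
    (hpure : ∀ x : X, ¬ IsOpen ({x} : Set X)) {F : X.Modules} (hF : Coh.IsCoh F)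
    (htf : TorSh.IsTorsionFree F) {α e : ℤ} (hα : DecSh.mult k X L F = α)
    (he : Curv2.euler k X F = e) {D : X.Modules} {a b : ℕ} (T : DecSh.TF F a b D) {δ : ℚ}
    (hδ : 0 < δ) (hT : T.IsSemistable k L δ) : SlopeLE k L F ((e : ℚ) / α + δ * a) := by
  intro K i hi hK hK0
  have h1 := mult_pos_of_torsionFree k hL hdim hpure htf i hK hK0
  have h2 := mult_le_of_mono k hL hdim i hK hF
  rw [hα] at h2
  have h1q : (1 : ℚ) ≤ DecSh.mult k X L K := by exact_mod_cast h1
  have h2q : (DecSh.mult k X L K : ℚ) ≤ α := by exact_mod_cast h2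
  have hα0 : (0 : ℚ) < α := by linarith
  have hδa : 0 ≤ δ * (a : ℚ) := by positivity
  by_cases hiso : IsIso i
  · rw [EulerChar.euler_iso k (asIso i), mult_iso k (asIso i), he, hα, add_mul, div_mul_cancel₀ _ hα0.ne']
    exact le_add_of_nonneg_right (mul_nonneg hδa hα0.le)
  · have h := semistable_bound k hL hdim hpure hF htf T hδ hT i hK hK0 hiso
    rw [hα, he] at h
    rw [add_mul, div_mul_eq_mul_div, ← sub_le_iff_le_add, le_div_iff₀ hα0]
    nlinarith [mul_nonneg hδa (sub_nonneg.2 h1q), mul_nonneg (mul_nonneg hδa hα0.le) (sub_nonneg.2 h1q),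
      mul_nonneg hδa (show (0 : ℚ) ≤ DecSh.mult k X L K by linarith)]

include k hL hdim in
set_option maxHeartbeats 1600000 in
/-- Either the first cohomology of a twisted submodule vanishes, or it has few sections. -/
theorem exists_dichotomy (αmax : ℕ) (M₀ R : ℚ) :
    ∃ m₀ : ℕ, ∀ m, m₀ ≤ m → ∀ (F : X.Modules), Coh.IsCoh F → Pure1 k L F →
      DecSh.mult k X L F ≤ αmax → SlopeLE k L F M₀ →
      ∀ (K : X.Modules) (i : K ⟶ F), Mono i → Coh.IsCoh K →
        (h0 k (ShStab.twist X L K m) : ℤ) = Curv2.euler k X (ShStab.twist X L K m) ∨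
        (h0 k (ShStab.twist X L K m) : ℚ) + R ≤ DecSh.mult k X L K * (m : ℚ) := by
  obtain ⟨c, hc0, hc⟩ := exists_h0_bound k hL hdim
  let M : ℚ := -c - |R| - αmax * |M₀ + c|
  let D : ℤ := ⌊-((αmax : ℚ) * |M|)⌋
  obtain ⟨m₁, hm₁⟩ := exists_uniform k hL hdim D
  refine ⟨max m₁ (max ⌈-M₀ - c⌉.toNat ⌈-M - c⌉.toNat), fun m hm F hF hp hα hS K i hi hK => ?_⟩
  haveI := hi
  have hKs := SlopeLE.of_mono k hS i
  have hKp := Pure1.of_mono k hp i
  have hαK : DecSh.mult k X L K ≤ αmax := (mult_le_of_mono k hL hdim i hK hF).trans hα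
  have hαKq : (DecSh.mult k X L K : ℚ) ≤ αmax := by exact_mod_cast hαK
  obtain ⟨G, j, hj, hG, hQp, hQs, hGq⟩ := exists_cut k hL hdim hK
    (⌈|M₀|⌉ * (αmax : ℤ)) (fun J f hf hJ => by
      by_cases hJ0 : IsZero J
      · rw [EulerChar.euler_of_isZero k hJ0]
        exact mul_nonneg (Int.ceil_nonneg (abs_nonneg _)) (Nat.cast_nonneg _)
      · have h1 := hKs J f hf hJ hJ0
        have h2 : (DecSh.mult k X L J : ℚ) ≤ αmax := by
          exact_mod_cast (mult_le_of_mono k hL hdim f hJ hK).trans hαK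
        have h3 : (0 : ℚ) ≤ DecSh.mult k X L J := by exact_mod_cast mult_nonneg k hL hdim hJ
        have h4 := Int.le_ceil |M₀|
        have h5 : (Curv2.euler k X J : ℚ) ≤ (⌈|M₀|⌉ : ℚ) * αmax :=
          h1.trans ((mul_le_mul_of_nonneg_right ((le_abs_self M₀).trans h4) h3).trans
            (mul_le_mul_of_nonneg_left h2 ((abs_nonneg M₀).trans h4)))
        exact_mod_cast h5) M
  haveI := hj
  have hC := isCoh_of_monoCokernel j hG hK
  by_cases hQ0 : IsZero (cokernel j)
  · left
    haveI := HilbPolyX.isIso_of_mono_of_cokernel j hQ0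
    have hq : QuotBound k D K := fun Q g hg hQ => by
      have h1 := hGq Q (j ≫ g) (epi_comp j g) hQ
      have h2 : (DecSh.mult k X L Q : ℚ) ≤ αmax := by
        have := mult_epi k hL hdim g hK hQ
        have := mult_nonneg k hL hdim (isCoh_of_kernel k g hK hQ)
        exact_mod_cast (by omega : DecSh.mult k X L Q ≤ αmax)
      have h3 : (0 : ℚ) ≤ DecSh.mult k X L Q := by exact_mod_cast mult_nonneg k hL hdim hQ
      have h4 := Int.floor_le (-((αmax : ℚ) * |M|))
      have h5 : (D : ℚ) ≤ Curv2.euler k X Q := by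
        refine h4.trans (le_trans ?_ h1)
        nlinarith [neg_abs_le M, abs_nonneg M, mul_le_mul_of_nonneg_left h2 (abs_nonneg M)]
      exact_mod_cast h5
    exact h0_eq_euler k hdim _ (hm₁ K hK hq m (le_of_max_le_left hm)).1
  · right
    have hαQ : (1 : ℚ) ≤ DecSh.mult k X L (cokernel j) := by
      exact_mod_cast hQp _ (𝟙 _) inferInstance hC hQ0
    have hαG : (0 : ℚ) ≤ DecSh.mult k X L G := by exact_mod_cast mult_nonneg k hL hdim hG
    have hsum : (DecSh.mult k X L K : ℚ) = DecSh.mult k X L G + DecSh.mult k X L (cokernel j) := by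
      exact_mod_cast mult_mono k hL hdim j hG hK
    have h1 := hc G hG (Pure1.of_mono k hKp j) M₀ (SlopeLE.of_mono k hKs j) m
    have h2 := hc (cokernel j) hC hQp M hQs m
    have hm2' : ⌈-M₀ - c⌉ ≤ (m : ℤ) := by omega
    have hm3' : ⌈-M - c⌉ ≤ (m : ℤ) := by omega
    have hm2 : -M₀ - c ≤ (m : ℚ) := (Int.le_ceil _).trans (by exact_mod_cast hm2')
    have hm3 : -M - c ≤ (m : ℚ) := (Int.le_ceil _).trans (by exact_mod_cast hm3')
    rw [max_eq_right (by linarith)] at h1 h2
    have h3 : (h0 k (ShStab.twist X L K m) : ℚ) ≤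
        h0 k (ShStab.twist X L G m) + h0 k (ShStab.twist X L (cokernel j) m) := by
      exact_mod_cast h0_add k (shortExact_twist k hL (shortExact_of_mono j) m)
        (isCoh_twist k hL.1 hK m) (isCoh_twist k hL.1 hC m)
    have h4 : (M₀ + c) * (DecSh.mult k X L G : ℚ) ≤ αmax * |M₀ + c| := by
      rw [mul_comm (αmax : ℚ)]
      exact (mul_le_mul_of_nonneg_right (le_abs_self _) hαG).trans
        (mul_le_mul_of_nonneg_left (by linarith) (abs_nonneg _))
    have h5 : (M + c) * (DecSh.mult k X L (cokernel j) : ℚ) ≤ M + c := by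
      have : M + c ≤ 0 := by
        simp only [M]
        nlinarith [abs_nonneg R, mul_nonneg (Nat.cast_nonneg (α := ℚ) αmax) (abs_nonneg (M₀ + c))]
      nlinarith
    have h6 : M + c + αmax * |M₀ + c| ≤ -R := by
      simp only [M]
      linarith [le_abs_self R]
    rw [hsum]
    nlinarith

include k hL hdim in
/-- A lower bound on the sections of all quotients gives a lower bound on their Euler characteristics. -/
theorem exists_quotBound_of_sectional (α : ℤ) (c₀ : ℚ) :
    ∃ D : ℤ, ∀ (F : X.Modules), Coh.IsCoh F → Pure1 k L F → DecSh.mult k X L F = α →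
      ∀ m : ℕ, 0 < c₀ + m →
      (∀ (Q : X.Modules) (g : F ⟶ Q), Epi g → Coh.IsCoh Q → ¬ IsZero Q →
        (DecSh.mult k X L Q : ℚ) * (c₀ + m) ≤ h0 k (ShStab.twist X L Q m)) →
      QuotBound k D F := by
  obtain ⟨c, hc0, hc⟩ := exists_h0_bound k hL hdim
  let M : ℚ := c₀ - c - 1
  refine ⟨⌊-((α.natAbs : ℚ) * |M|)⌋, fun F hF hp hα m hm hsec => ?_⟩
  haveI := EulerChar.isNoetherian k (X := X)
  obtain ⟨G, j, hj, hG, hQp, hQs, hGq⟩ := exists_cut k hL hdim hF (h0 k F : ℤ) (fun J f hf hJ =>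
    (euler_le_h0 k hdim J).trans (Int.ofNat_le.2 (h0_mono k f hF))) M
  haveI := hj
  have hC := isCoh_of_monoCokernel j hG hF
  have hQ0 : IsZero (cokernel j) := by
    by_contra hne
    have h1 := hsec _ (cokernel.π j) inferInstance hC hne
    have h2 := hc (cokernel j) hC hQp M hQs m
    have hαQ : (1 : ℚ) ≤ DecSh.mult k X L (cokernel j) := by
      exact_mod_cast hQp _ (𝟙 _) inferInstance hC hne
    have h3 : max 0 (M + m + c) < c₀ + m := max_lt hm (by simp only [M]; linarith)
    nlinarith [mul_lt_mul_of_pos_right h3 (show (0 : ℚ) < DecSh.mult k X L (cokernel j) by linarith)]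
  haveI := HilbPolyX.isIso_of_mono_of_cokernel j hQ0
  intro Q g hg hQ
  have h1 := hGq Q (j ≫ g) (epi_comp j g) hQ
  have h2 : (DecSh.mult k X L Q : ℚ) ≤ (α.natAbs : ℚ) := by
    have := mult_epi k hL hdim g hF hQ
    have := mult_nonneg k hL hdim (isCoh_of_kernel k g hF hQ)
    have h : DecSh.mult k X L Q ≤ ((α.natAbs : ℕ) : ℤ) := by omega
    calc (DecSh.mult k X L Q : ℚ) ≤ (((α.natAbs : ℕ) : ℤ) : ℚ) := Int.cast_le.2 h
      _ = _ := Int.cast_natCast _
  have h3 : (0 : ℚ) ≤ DecSh.mult k X L Q := by exact_mod_cast mult_nonneg k hL hdim hQ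
  have h4 := Int.floor_le (-((α.natAbs : ℚ) * |M|))
  have h5 : ((⌊-((α.natAbs : ℚ) * |M|)⌋ : ℤ) : ℚ) ≤ Curv2.euler k X Q := by
    refine h4.trans (le_trans ?_ h1)
    nlinarith [neg_abs_le M, abs_nonneg M, mul_le_mul_of_nonneg_left h2 (abs_nonneg M)]
  exact_mod_cast h5

end Groth.Agent.DecCurve

end
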