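import Groth.Agent.DecCurve.Gam

/-!
# Splitting a weighted filtration into exact and deficient steps
-/

set_option autoImplicit false

universe v u

open CategoryTheory CategoryTheory.Limits

noncomputable section

namespace Groth.Agent.DecCurve.Dich

variable {C : Type u} [Category.{v} C] {E : C} (𝓕 : DecSh.WFilt E)

/-- The subfiltration of the steps in a nonempty set. -/
def restrict (J : Finset (Fin 𝓕.t)) (hJ : J.Nonempty) : DecSh.WFilt E where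
  t := J.card
  t_pos := hJ.card_pos
  piece j := 𝓕.piece (J.orderEmbOfFin rfl j)
  wt j := 𝓕.wt (J.orderEmbOfFin rfl j)
  piece_strictMono := 𝓕.piece_strictMono.comp (J.orderEmbOfFin rfl).strictMono
  piece_ne_top _ := 𝓕.piece_ne_top _
  piece_nonzero _ := 𝓕.piece_nonzero _
  wt_pos _ := 𝓕.wt_pos _

variable (αE : ℤ) (α : Subobject E → ℤ) {a : ℕ} (N : DecSh.NV E a) (dE : ℚ) (d : Subobject E → ℚ)

/-- If every step is either exact or sufficiently deficient, semistability bounds the sum, and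
equality forces every step to be exact. -/
theorem sum_le {ok : Subobject E → Prop} (hok : ∀ i, ok (𝓕.piece i))
    (hα : ∀ i, 1 ≤ α (𝓕.piece i) ∧ α (𝓕.piece i) ≤ αE) {δ : ℚ} (hδ : 0 ≤ δ)
    (hSS : DecSh.IsDeltaSS ok αE α dE d N δ) (t : Fin 𝓕.t → ℚ)
    (ht : ∀ i, t i = (αE : ℚ) * d (𝓕.piece i) - (α (𝓕.piece i) : ℚ) * dE ∨
      t i < -(δ * ((a : ℚ) * ((αE : ℚ) - 1)))) :
    (∑ i, 𝓕.wt i * t i) + δ * 𝓕.mu αE α N ≤ 0 ∧
      ((∑ i, 𝓕.wt i * t i) + δ * 𝓕.mu αE α N = 0 →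
        ∀ i, t i = (αE : ℚ) * d (𝓕.piece i) - (α (𝓕.piece i) : ℚ) * dE) := by
  classical
  let s : Fin 𝓕.t → ℚ := fun i => (αE : ℚ) * d (𝓕.piece i) - (α (𝓕.piece i) : ℚ) * dE
  let J : Finset (Fin 𝓕.t) := Finset.univ.filter fun i => t i = s i
  let c : ℚ := (a : ℚ) * ((αE : ℚ) - 1)
  have hrest : ∀ i ∈ Jᶜ, 𝓕.wt i * t i < 𝓕.wt i * -(δ * c) := fun i hi => by
    refine mul_lt_mul_of_pos_left ((ht i).resolve_left ?_) (𝓕.wt_pos i)
    intro h
    exact Finset.mem_compl.1 hi (Finset.mem_filter.2 ⟨Finset.mem_univ _, h⟩)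
  have hsum : ∑ i, 𝓕.wt i * t i = (∑ i ∈ J, 𝓕.wt i * s i) + ∑ i ∈ Jᶜ, 𝓕.wt i * t i := by
    rw [← Finset.sum_add_sum_compl J]
    exact congrArg (· + _) (Finset.sum_congr rfl fun i hi => by rw [(Finset.mem_filter.1 hi).2])
  have hw : (∑ i, 𝓕.wt i) = (∑ i ∈ J, 𝓕.wt i) + ∑ i ∈ Jᶜ, 𝓕.wt i := (Finset.sum_add_sum_compl J _).symm
  have key : (∑ i ∈ J, 𝓕.wt i * s i) + δ * 𝓕.mu αE α N ≤ δ * c * ∑ i ∈ Jᶜ, 𝓕.wt i := by
    rcases J.eq_empty_or_nonempty with hJ | hJ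
    · have h := Gam.abs_mu_le 𝓕 αE α hα N
      have h' := mul_le_mul_of_nonneg_left ((abs_le.1 h).2) hδ
      rw [hw, hJ] at h'
      rw [hJ]
      simp only [Finset.sum_empty, zero_add] at h' ⊢
      simp only [c]
      linarith
    · have h1 := hSS (restrict 𝓕 J hJ) fun j => hok _
      have h2 := Gam.mu_le_sub 𝓕 αE α hα N (restrict 𝓕 J hJ) (J.orderEmbOfFin rfl) (fun _ => rfl)
        (fun _ => rfl)
      have hmap : ∀ f : Fin 𝓕.t → ℚ, ∑ j : Fin J.card, f (J.orderEmbOfFin rfl j) = ∑ i ∈ J, f i := fun f => by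
        conv_rhs => rw [← J.map_orderEmbOfFin_univ rfl, Finset.sum_map]
        rfl
      have e1 : (restrict 𝓕 J hJ).msum αE α dE d = ∑ i ∈ J, 𝓕.wt i * s i := hmap fun i => 𝓕.wt i * s i
      have e2 : ∑ j, (restrict 𝓕 J hJ).wt j = ∑ i ∈ J, 𝓕.wt i := hmap 𝓕.wt
      rw [e1] at h1
      rw [e2, hw, add_sub_cancel_left] at h2
      have h3 := mul_le_mul_of_nonneg_left h2 hδ
      simp only [c]
      linarith
  have hle : ∑ i ∈ Jᶜ, 𝓕.wt i * t i ≤ -(δ * c * ∑ i ∈ Jᶜ, 𝓕.wt i) := by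
    refine (Finset.sum_le_sum fun i hi => (hrest i hi).le).trans (le_of_eq ?_)
    rw [Finset.mul_sum, ← Finset.sum_neg_distrib]
    exact Finset.sum_congr rfl fun i _ => by ring
  refine ⟨by linarith, fun heq i => ?_⟩
  by_contra hne
  have hi : i ∈ Jᶜ := Finset.mem_compl.2 fun h => hne (Finset.mem_filter.1 h).2
  have hlt : ∑ i ∈ Jᶜ, 𝓕.wt i * t i < -(δ * c * ∑ i ∈ Jᶜ, 𝓕.wt i) := by
    refine (Finset.sum_lt_sum (fun i hi => (hrest i hi).le) ⟨i, hi, hrest i hi⟩).trans_le (le_of_eq ?_)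
    rw [Finset.mul_sum, ← Finset.sum_neg_distrib]
    exact Finset.sum_congr rfl fun i _ => by ring
  linarith

end Groth.Agent.DecCurve.Dich

end
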