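import Groth.Agent.DecCurve.TorFree
import Groth.Agent.DecCurve.Sections
import Groth.Agent.FlatMor.GenericPts
import Groth.Agent.VBLib.SerreGen
import Groth.Agent.GGDesc.Basic
import Groth.Agent.TFCurvLib.LocFreeSub
import Groth.Agent.S10961
import Groth.Agent.S2325
import Groth.Agent.SerrePn.Coherent

/-!
# Embeddings of torsion free modules into copies of a power of an ample module
-/

set_option autoImplicit false
set_option linter.style.haveILetI false
set_option backward.isDefEq.respectTransparency.types false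

universe u

open CategoryTheory CategoryTheory.Limits AlgebraicGeometry TopologicalSpace
open Groth.Agent.PullStalk.Sky Groth.Agent.PullStalk.Exact Groth.Agent.Omega.Stalks Groth.Agent.QCoh
  Groth.Agent.KFlat.StalkTensor Groth.Agent.ExtFilt.Stalkwise

noncomputable section

namespace Groth.Agent.DecCurve

variable {X : Scheme.{u}}

/-- The stalk of an invertible module is free of rank one. -/
theorem exists_stalk_gen {M : X.Modules} (hM : PicF.IsInvertible M) (y : X) :
    Nonempty (X.presheaf.stalk y ≃ₗ[X.presheaf.stalk y] M.presheaf.stalk y) := by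
  obtain ⟨U, g, hgU, hg⟩ := Groth.Agent.Props.GenLocus.exists_isGen hM y
  exact ⟨LinearEquiv.ofBijective _ (PicLaw.bijective_toSpanSingleton_germ hg y hgU)⟩

/-- At a point with field stalk, homomorphisms into a twist are spanned by global ones. -/
theorem exists_hom_span [IsLocallyNoetherian X] {F : X.Modules} (hF : Coh.IsCoh F) {M : X.Modules}
    (hgg : Curv2.IsGloballyGenerated (CohB1.tensorMod (RefHull.dual F) M)) (η : X)
    (hfree : Module.Free (X.presheaf.stalk η) (F.presheaf.stalk η)) :
    Submodule.span (X.presheaf.stalk η)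
      (Set.range fun f : F ⟶ M => (stalkLin f η : RefHull.StalkHom F M η)) = ⊤ := by
  haveI := hF.1
  have hfp := HomShQC.isFP_of_isCoh F hF
  let ev : ∀ x : X, (RefHull.homSh F M).presheaf.stalk x ≃ₗ[X.presheaf.stalk x] RefHull.StalkHom F M x :=
    fun x => LinearEquiv.ofBijective _ (HomShQC.evalStalk_bijective F M hfp x)
  let dv : ∀ x : X, (RefHull.dual F).presheaf.stalk x ≃ₗ[X.presheaf.stalk x]
      RefHull.StalkHom F (Coh.structureModule X) x :=
    fun x => LinearEquiv.ofBijective _ (HomShQC.evalStalk_bijective F (Coh.structureModule X) hfp x)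
  let φ : ∀ x : X, (tensM (RefHull.dual F) M).presheaf.stalk x →ₗ[X.presheaf.stalk x]
      (RefHull.homSh F M).presheaf.stalk x := fun x =>
    (ev x).symm.toLinearMap ∘ₗ TensorProduct.lift (VBLib.SerreGen.rankOne F M x) ∘ₗ
      (LinearEquiv.rTensor (M.presheaf.stalk x) (dv x)).toLinearMap ∘ₗ toTensor (RefHull.dual F) M x
  have hloc : ∀ x t, Loc φ x t := by
    intro x t
    rw [← (stalkTensorEquiv (RefHull.dual F) M x).symm_apply_apply t]
    generalize stalkTensorEquiv (RefHull.dual F) M x t = z
    induction z using TensorProduct.induction_on with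
    | zero => rw [map_zero]; exact loc_zero x
    | add p q hp hq => rw [map_add]; exact loc_add hp hq
    | tmul p q =>
      obtain ⟨U, hx, m, g, rfl, rfl⟩ := exists_rep p q
      refine ⟨U, hx, tmulSec U m g, VBLib.HomOne.tensSec m g, (fromTensor_germ U hx m g).symm,
        fun y hy => ?_⟩
      show (ev y).symm (TensorProduct.lift (VBLib.SerreGen.rankOne F M y)
        ((LinearEquiv.rTensor (M.presheaf.stalk y) (dv y))
        (toTensor (RefHull.dual F) M y (tgerm (RefHull.dual F) M y U hy m g)))) = _
      rw [toTensor_tgerm, LinearEquiv.symm_apply_eq]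
      show LinearMap.smulRight (VBLib.HomOne.scal y (dv y (germM (RefHull.dual F) U y hy m)))
        (germM M U y hy g) = _
      refine Eq.trans ?_ (RefHull.evalStalk_germ F M y hy (VBLib.HomOne.tensSec m g)).symm
      rw [show dv y (germM (RefHull.dual F) U y hy m) = m.1 ⟨y, hy⟩ from RefHull.evalStalk_germ F _ y hy m]
      rfl
  obtain ⟨h, hh⟩ := exists_hom hloc
  haveI := hfree
  haveI := HomShQC.finite_stalk F hF.2 η
  have hsurj : Function.Surjective ((ev η).toLinearMap ∘ₗ stalkLin h η) := by
    refine (ev η).surjective.comp ?_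
    rw [show ⇑(stalkLin h η) = ⇑(φ η) from funext (hh η)]
    exact ((ev η).symm.bijective.comp ((VBLib.SerreGen.bijective_lift_rankOne F M η).comp
      ((LinearEquiv.rTensor (M.presheaf.stalk η) (dv η)).bijective.comp
        (stalkTensorEquiv (RefHull.dual F) M η).bijective))).2
  have e := congrArg (Submodule.map ((ev η).toLinearMap ∘ₗ stalkLin h η)) (GGDesc.globSpan_eq_top hgg η)
  have e' := e.trans ((Submodule.map_top _).trans (LinearMap.range_eq_top.2 hsurj))
  refine eq_top_iff.2 (e'.symm.le.trans ((Submodule.map_span _ _).le.trans ?_))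
  refine Submodule.span_mono ?_
  rintro _ ⟨_, ⟨σ, rfl⟩, rfl⟩
  refine ⟨VBLib.Serre.toHom F M (h.app ⊤ σ), ?_⟩
  refine LinearMap.ext fun t => (VBLib.Serre.stalkLin_toHom F M (h.app ⊤ σ) η t).trans ?_
  show _ = (ev η) (stalkLin h η (germM _ ⊤ η trivial σ)) t
  rw [stalkLin_germ]
  exact (LinearMap.congr_fun (RefHull.evalStalk_germ F M (U := ⊤) η trivial (h.app ⊤ σ)) t).symm

/-- A torsion free abelian-group element avoiding finitely many saturated subgroups. -/
theorem exists_notMem_all {A : Type*} [AddCommGroup A] {β : Type*} (s : Finset β) (S : β → AddSubgroup A)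
    (hsat : ∀ b ∈ s, ∀ (n : ℕ) (a : A), 0 < n → n • a ∈ S b → a ∈ S b)
    (hne : ∀ b ∈ s, ∃ a, a ∉ S b) : ∃ a : A, ∀ b ∈ s, a ∉ S b := by
  classical
  induction s using Finset.induction_on with
  | empty => exact ⟨0, fun b hb => absurd hb (Finset.notMem_empty b)⟩
  | @insert c s hc ih =>
    obtain ⟨a, ha⟩ := ih (fun b hb => hsat b (Finset.mem_insert_of_mem hb))
      (fun b hb => hne b (Finset.mem_insert_of_mem hb))
    obtain ⟨a', ha'⟩ := hne c (Finset.mem_insert_self c s)
    by_cases hac : a ∈ S c
    · by_contra hcon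
      push Not at hcon
      have key : ∀ j : ℕ, ∃ b ∈ s, (j + 1) • a + a' ∈ S b := fun j => by
        obtain ⟨b, hb, hbm⟩ := hcon ((j + 1) • a + a')
        rcases Finset.mem_insert.1 hb with rfl | hb
        · exact absurd (by simpa using (S b).sub_mem hbm ((S b).nsmul_mem hac (j + 1))) ha'
        · exact ⟨b, hb, hbm⟩
      choose b hb hbm using key
      obtain ⟨i, j, hij, e⟩ := Finite.exists_ne_map_eq_of_infinite (fun j => (⟨b j, hb j⟩ : s))
      have e' : b i = b j := congrArg Subtype.val e
      rcases Nat.lt_or_gt_of_ne hij with h | h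
      · refine ha (b i) (hb i) (hsat _ (Finset.mem_insert_of_mem (hb i)) (j - i) a (by omega) ?_)
        have h1 := (S (b i)).sub_mem (e' ▸ hbm j) (hbm i)
        rwa [add_sub_add_right_eq_sub, sub_eq_add_neg, ← sub_nsmul _ (by omega : i + 1 ≤ j + 1), Nat.add_sub_add_right] at h1
      · refine ha (b i) (hb i) (hsat _ (Finset.mem_insert_of_mem (hb i)) (i - j) a (by omega) ?_)
        have h1 := (S (b i)).sub_mem (hbm i) (e' ▸ hbm j)
        rwa [add_sub_add_right_eq_sub, sub_eq_add_neg, ← sub_nsmul _ (by omega : j + 1 ≤ i + 1), Nat.add_sub_add_right] at h1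
    · exact ⟨a, fun b hb => by
        rcases Finset.mem_insert.1 hb with rfl | hb
        · exact hac
        · exact ha b hb⟩

/-- A non-closed point of a curve is a generic point. -/
theorem eq_of_specializes_of_not_closed (hdim : topologicalKrullDim X ≤ 1) {y : X}
    (hy : ¬ IsClosed ({y} : Set X)) (z : X) (hzy : z ⤳ y) : z = y := by
  obtain ⟨w, hw, hwy⟩ : ∃ w ∈ closure ({y} : Set X), w ≠ y := by
    by_contra hne
    push Not at hne
    have e : closure ({y} : Set X) = {y} := subset_antisymm hne subset_closure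
    exact hy (e ▸ isClosed_closure)
  let C : X → IrreducibleCloseds X := fun p =>
    ⟨closure {p}, isIrreducible_singleton.closure, isClosed_closure⟩
  have hle : ∀ p q : X, q ⤳ p → C p ≤ C q := fun p q h => specializes_iff_closure_subset.1 h
  have hinj : ∀ p q : X, C q ≤ C p → p ⤳ q := fun p q h =>
    specializes_iff_closure_subset.2 h
  have h1 := hle w y (specializes_iff_mem_closure.2 hw)
  rcases Order.krullDim_le_one_iff.1 hdim (C y) with h | h
  · exact absurd (((hinj w y (h h1)).antisymm (specializes_iff_mem_closure.2 hw)).eq) hwy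
  · exact ((hinj y z (h (hle y z hzy))).antisymm hzy).eq.symm

theorem isField_of_not_closed [AlgebraicGeometry.IsReduced X] (hdim : topologicalKrullDim X ≤ 1) {y : X}
    (hy : ¬ IsClosed ({y} : Set X)) : IsField (X.presheaf.stalk y) :=
  S10961.isField_stalk y (eq_of_specializes_of_not_closed hdim hy)

variable {r : ℕ}

/-- The projections of copies of a module. -/
def proj (M : X.Modules) (j : Fin r) : (∐ fun _ : Fin r => M) ⟶ M :=
  Sigma.desc fun i => if i = j then 𝟙 M else 0

theorem ι_proj (M : X.Modules) (i j : Fin r) :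
    Sigma.ι (fun _ : Fin r => M) i ≫ proj M j = if i = j then 𝟙 M else 0 := by simp [proj]

theorem sum_proj (M : X.Modules) :
    ∑ j : Fin r, proj M j ≫ Sigma.ι (fun _ : Fin r => M) j = 𝟙 _ := by
  refine Sigma.hom_ext _ _ fun i => ?_
  rw [Preadditive.comp_sum, Category.comp_id, Finset.sum_eq_single i]
  · rw [← Category.assoc, ι_proj, if_pos rfl, Category.id_comp]
  · intro j _ hj
    rw [← Category.assoc, ι_proj, if_neg (Ne.symm hj), zero_comp]
  · simp

/-- The stalk of copies of a module. -/
theorem stalkProj_bijective (M : X.Modules) (y : X) :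
    Function.Bijective (LinearMap.pi fun j : Fin r => stalkLin (proj M j) y) := by
  constructor
  · refine (injective_iff_map_eq_zero _).2 fun t ht => ?_
    have h : stalkLin (∑ j : Fin r, proj M j ≫ Sigma.ι (fun _ : Fin r => M) j) y t = t := by
      rw [sum_proj, show stalkLin (𝟙 (∐ fun _ : Fin r => M)) y t = t from CohDev.stalkLin_id_apply y t]
    rw [CohDev.stalkLin_sum_apply] at h
    rw [← h]
    refine Finset.sum_eq_zero fun j _ => ?_
    rw [stalkLin_comp, show stalkLin (proj M j) y t = 0 from congr_fun ht j, map_zero]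
  · intro v
    refine ⟨∑ i : Fin r, stalkLin (Sigma.ι (fun _ : Fin r => M) i) y (v i), funext fun j => ?_⟩
    rw [LinearMap.pi_apply, map_sum, Finset.sum_eq_single j]
    · rw [← stalkLin_comp, ι_proj, if_pos rfl, CohDev.stalkLin_id_apply]
    · intro i _ hij
      rw [← stalkLin_comp, ι_proj, if_neg hij, stalkLin_zero]
    · simp

theorem surjective_of_subsingleton {A B : X.Modules} (f : A ⟶ B) (y : X) [Mono f]
    (h : Subsingleton ((cokernel f).presheaf.stalk y)) : Function.Surjective (stalkLin f y) := fun t =>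
  ((stalk_exact (HilbPolyX.shortExact_of_mono f) y).2.1 t).1 (h.elim _ _)

/-- Finitely many copies of an invertible module are coherent. -/
theorem isCoh_copies [IsNoetherian X] {M : X.Modules} (hM : PicF.IsInvertible M) (r : ℕ) :
    Coh.IsCoh (∐ fun _ : Fin r => M) :=
  CohDev.isCoh_of_iso (Sigma.whiskerEquiv (Equiv.ulift : ULift.{u} (Fin r) ≃ Fin r) fun _ => Iso.refl M)
    (SerrePn.isCoh_coprod (fun _ : ULift.{u} (Fin r) => M) fun _ => CohDev.isCoh_of_iso (ProjTwist.oneTens M)
      (ProjTwist.isCoh_tensor hM HomShQC.isCoh_structureModule))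

theorem assoc_iff_isAssPoint [IsLocallyNoetherian X] (F : X.Modules) (y : X) :
    CohDev.Assoc F y ↔ Curv2.IsAssPoint F y := by
  haveI : IsNoetherianRing (X.presheaf.stalk y) := inferInstance
  rw [Curv2.IsAssPoint, isAssociatedPrime_iff]
  constructor
  · rintro ⟨t, ht, hr⟩
    refine ⟨inferInstance, t, le_antisymm (fun r h => Submodule.mem_colon_singleton.2 (hr r h))
      (IsLocalRing.le_maximalIdeal fun h => ht ?_)⟩
    have h1 : (1 : X.presheaf.stalk y) ∈ (⊥ : Submodule (X.presheaf.stalk y) _).colon {t} := h ▸ trivial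
    simpa using Submodule.mem_colon_singleton.1 h1
  · rintro ⟨hp, t, ht⟩
    refine ⟨t, fun h0 => hp.ne_top (ht.trans ?_), fun r h => Submodule.mem_colon_singleton.1 (ht ▸ h)⟩
    rw [h0, Submodule.colon_eq_top_iff_subset]
    simp

end Groth.Agent.DecCurve

end
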