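import Groth.Agent.S1575
import Groth.Agent.DepthAlong12.Flat
import Groth.Agent.DecCurve.MonoTwist
import Groth.Agent.CohBase.FlatBC.Global
import Groth.Agent.ParaFLib.OpenData
import Groth.Agent.Props.QStalk
import Groth.Agent.PicCl.Basic

/-!
# Extensions of invertible modules from big opens, by flat descent
-/

set_option autoImplicit false
set_option linter.style.haveILetI false
set_option backward.isDefEq.respectTransparency.types false

universe u

open CategoryTheory CategoryTheory.Limits AlgebraicGeometry TopologicalSpace Opposite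
open Groth.Agent.QCoh Groth.Agent.PullStalk.Sky Groth.Agent.Props.GenLocus
open scoped TensorProduct

noncomputable section

namespace Groth.Agent.DecCurve.ExtInv

variable {X : Scheme.{u}}

theorem isCoh_of_isInvertible {M : X.Modules} (hM : PicF.IsInvertible M) : Coh.IsCoh M :=
  VBLib.isCoh_of_ofRank (ProjTwist.isFinLocFreeOfRank_one hM)

/-- A module of finite free rank one after a faithfully flat local base change is free of rank one. -/
theorem free_one_of_baseChange {A B : Type u} [CommRing A] [IsLocalRing A] [CommRing B] [IsLocalRing B]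
    [Algebra A B] [Module.FaithfullyFlat A B] {P : Type u} [AddCommGroup P] [Module A P]
    (e : B ⊗[A] P ≃ₗ[B] B) : Nonempty (A ≃ₗ[A] P) := by
  haveI : Module.Finite B (B ⊗[A] P) := Module.Finite.equiv e.symm
  haveI : Module.Finite A P := Module.Finite.of_finite_tensorProduct_of_faithfullyFlat B
  haveI : Module.Flat B (B ⊗[A] P) := Module.Flat.of_linearEquiv e
  haveI : Module.Flat A P := (Module.Flat.iff_flat_tensorProduct (R := A) P B).1 inferInstance
  haveI : Module.Free A P := Module.free_of_flat_of_isLocalRing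
  have h : Module.finrank A P = 1 := by
    rw [← Module.finrank_baseChange (R := B), e.finrank_eq, Module.finrank_self]
  exact FiniteDimensional.nonempty_linearEquiv_of_finrank_eq (by rw [h, Module.finrank_self])

/-- Depth goes up along a flat morphism. -/
theorem depth_le_of_flat {X' : Scheme.{u}} [IsLocallyNoetherian X] [IsLocallyNoetherian X'] (φ : X' ⟶ X) [Flat φ]
    (z : X') : LocCoh.depth (X.presheaf.stalk (φ z)) (X.presheaf.stalk (φ z)) ≤
      LocCoh.depth (X'.presheaf.stalk z) (X'.presheaf.stalk z) := by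
  letI := (φ.stalkMap z).hom.toAlgebra
  haveI : IsLocalHom (algebraMap (X.presheaf.stalk (φ z)) (X'.presheaf.stalk z)) :=
    inferInstanceAs (IsLocalHom (φ.stalkMap z).hom)
  haveI : Module.Flat (X.presheaf.stalk (φ z)) (X'.presheaf.stalk z) := Flat.stalkMap φ z
  have h := EGA4Lib.depth_tensor_of_flat (R := X.presheaf.stalk (φ z)) (S := X'.presheaf.stalk z)
    (N := X'.presheaf.stalk z) (M := X.presheaf.stalk (φ z))
  have e : LocCoh.depth (X'.presheaf.stalk z)
      (X'.presheaf.stalk z ⊗[X.presheaf.stalk (φ z)] X.presheaf.stalk (φ z)) =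
      LocCoh.depth (X'.presheaf.stalk z) (X'.presheaf.stalk z) :=
    Depth.idealDepth_congr (TensorProduct.AlgebraTensorModule.rid _ _ _)
  rw [← e, h]
  exact le_self_add

set_option maxHeartbeats 800000 in
/-- An invertible module is the direct image of its restriction to a big open. -/
theorem isIso_unit [IsLocallyNoetherian X] (V : X.Opens)
    (hV : ∀ x : X, x ∉ V → 2 ≤ LocCoh.depth (X.presheaf.stalk x) (X.presheaf.stalk x))
    {M : X.Modules} (hM : PicF.IsInvertible M) :
    IsIso ((Scheme.Modules.restrictAdjunction V.ι).unit.app M) := by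
  rw [Scheme.Modules.Hom.isIso_iff_isIso_app]
  intro W
  rw [ConcreteCategory.isIso_iff_bijective]
  have h := S1575.result X M (isCoh_of_isInvertible hM) V (fun x hx => by
    obtain ⟨e⟩ := exists_stalk_gen hM x
    have h2 := hV x hx
    rw [Depth.depth_eq_idealDepth] at h2 ⊢
    rwa [← Depth.idealDepth_congr e]) W
  show Function.Bijective (M.presheaf.map (homOfLE (V.ι.image_preimage_le W)).op)
  have key : ∀ (W' : X.Opens) (hle : W' ≤ W), W' = W ⊓ V →
      Function.Bijective (M.presheaf.map (homOfLE hle).op) := by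
    rintro W' hle rfl
    exact h
  exact key _ _ (by rw [Scheme.Hom.image_preimage_eq_opensRange_inf, Scheme.Opens.opensRange_ι, inf_comm])

/-- Near a point, a function on an affine open inside an affine open is a unit if it is one at the
generalizations. -/
theorem exists_nhd_basicOpen {W U : X.Opens} (hW : IsAffineOpen W) (hU : IsAffineOpen U) (hUW : U ≤ W)
    {x : X} (hx : x ∈ W) (c : Γ(X, U)) (h : ∀ η : X, η ∈ U → η ⤳ x → η ∈ X.basicOpen c) :
    ∃ O : X.Opens, x ∈ O ∧ O ⊓ U ≤ X.basicOpen c := by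
  let S : Submonoid Γ(X, W) :=
    { carrier := {a | x ∈ X.basicOpen a}
      one_mem' := by simpa [Scheme.basicOpen_of_isUnit X isUnit_one] using hx
      mul_mem' := fun {a b} ha hb => by
        show x ∈ X.basicOpen (a * b)
        rw [X.basicOpen_mul]
        exact ⟨ha, hb⟩ }
  let T : Submonoid Γ(X, U) := S.map (X.presheaf.map (homOfLE hUW).op).hom
  by_cases hd : Disjoint (Ideal.span {c} : Set Γ(X, U)) (T : Set Γ(X, U))
  · exfalso
    obtain ⟨Q, hQp, hcQ, hQT⟩ := Ideal.exists_le_prime_disjoint _ T hd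
    have hη : hU.fromSpec ⟨Q, hQp⟩ ∈ U := hU.range_fromSpec.le (Set.mem_range_self _)
    have hmem : ∀ a : Γ(X, U), hU.fromSpec ⟨Q, hQp⟩ ∈ X.basicOpen a ↔ a ∉ Q := fun a => by
      change (⟨Q, hQp⟩ : PrimeSpectrum Γ(X, U)) ∈ hU.fromSpec ⁻¹ᵁ X.basicOpen a ↔ _
      rw [hU.fromSpec_preimage_basicOpen]
      rfl
    refine (hmem c).1 (h _ hη (specializes_iff_forall_open.2 fun O hO hxO => ?_))
      (hcQ (Ideal.mem_span_singleton_self c))
    obtain ⟨a, haO, hxa⟩ := hW.exists_basicOpen_le (V := ⟨O, hO⟩) ⟨x, hxO⟩ hx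
    refine haO ?_
    have := (hmem (X.presheaf.map (homOfLE hUW).op a)).2
      fun ha => Set.disjoint_left.1 hQT ha ⟨a, hxa, rfl⟩
    rw [X.basicOpen_res] at this
    exact this.2
  · obtain ⟨_, hbc, a, hxa, rfl⟩ := Set.not_disjoint_iff.1 hd
    obtain ⟨b, hb⟩ := Ideal.mem_span_singleton.1 hbc
    refine ⟨X.basicOpen a, hxa, ?_⟩
    rw [inf_comm, ← X.basicOpen_res a (homOfLE hUW).op, hb, X.basicOpen_mul]
    exact inf_le_left

set_option maxHeartbeats 800000 in
/-- A quasi-coherent module which is free of rank one at all points and invertible on a big open, whose sections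
are the sections on that open, is invertible. -/
theorem isInvertible_of_stalks [IsLocallyNoetherian X] (V : X.Opens)
    (hV : ∀ x : X, x ∉ V → 2 ≤ LocCoh.depth (X.presheaf.stalk x) (X.presheaf.stalk x))
    (N : X.Modules) [N.IsQuasicoherent] (hN : PicF.IsInvertible (N.restrict V.ι))
    (hres : ∀ W : X.Opens, Function.Bijective (res N (inf_le_left : W ⊓ V ≤ W)))
    (hstalk : ∀ x : X, Nonempty (X.presheaf.stalk x ≃ₗ[X.presheaf.stalk x] N.presheaf.stalk x)) :
    PicF.IsInvertible N := by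
  intro x
  obtain ⟨ex⟩ := hstalk x
  obtain ⟨W₁, hx₁, t₁, ht₁⟩ := exists_germM_eq N x (ex 1)
  obtain ⟨W, hW, hxW, hWle⟩ := exists_isAffineOpen_mem_and_subset (U := W₁) hx₁
  let t := res N hWle t₁
  have ht : germM N W x hxW t = ex 1 :=
    (N.presheaf.germ_res_apply (homOfLE hWle) x hxW t₁).trans ht₁
  -- the section generates at all generalizations
  have hspan : ∀ (η : X) (hη : η ∈ W), η ⤳ x → ∀ z : N.presheaf.stalk η,
      ∃ a : X.presheaf.stalk η, z = a • germM N W η hη t := by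
    intro η hη hsp z
    letI := Props.QStalk.moduleSections N hη
    haveI := Props.QStalk.isLocalizedModule_germLin N hη hW
    obtain ⟨⟨m, s⟩, hms⟩ := IsLocalizedModule.surj (hW.primeIdealOf ⟨η, hη⟩).asIdeal.primeCompl
      (Props.QStalk.germLin N hη) z
    have hu : IsUnit (X.presheaf.germ W η hη (s : Γ(X, W))) := by
      letI := X.presheaf.algebra_section_stalk ⟨η, hη⟩
      haveI : IsLocalization.AtPrime (X.presheaf.stalk η) (hW.primeIdealOf ⟨η, hη⟩).asIdeal :=
        hW.isLocalization_stalk ⟨η, hη⟩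
      exact IsLocalization.map_units (X.presheaf.stalk η) s
    obtain ⟨O, hxO, a, ha⟩ := X.presheaf.exists_germ_eq (ex.symm (germM N W x hxW m))
    have he : germM N (W ⊓ O) x ⟨hxW, hxO⟩ (res N inf_le_left m) =
        germM N (W ⊓ O) x ⟨hxW, hxO⟩ (rres (inf_le_right : W ⊓ O ≤ O) a • res N inf_le_left t) := by
      rw [germM_smul]
      refine (N.presheaf.germ_res_apply _ x _ m).trans ?_
      rw [show germM N (W ⊓ O) x ⟨hxW, hxO⟩ (res N inf_le_left t) = ex 1 from
          (N.presheaf.germ_res_apply _ x _ t).trans ht, ← map_smul, smul_eq_mul, mul_one,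
        X.presheaf.germ_res_apply, ha, LinearEquiv.apply_symm_apply]
    obtain ⟨P, hxP, i₁, i₂, hP⟩ := N.presheaf.germ_eq x _ _ _ _ he
    have hηP : η ∈ P := hsp.mem_open P.isOpen hxP
    have e2 : germM N W η hη m =
        X.presheaf.germ (W ⊓ O) η (leOfHom i₁ hηP) (rres inf_le_right a) • germM N W η hη t := by
      have h3 := congrArg (germM N P η hηP) hP
      rw [show germM N W η hη t = germM N (W ⊓ O) η (leOfHom i₁ hηP) (res N inf_le_left t) from
        (N.presheaf.germ_res_apply _ η _ t).symm, ← germM_smul]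
      refine (N.presheaf.germ_res_apply (homOfLE inf_le_left) η (leOfHom i₁ hηP) m).symm.trans ?_
      refine ((N.presheaf.germ_res_apply i₁ η hηP _).symm.trans h3).trans ?_
      exact N.presheaf.germ_res_apply i₂ η hηP _
    obtain ⟨v, hv⟩ := hu
    refine ⟨(↑v⁻¹ : X.presheaf.stalk η) * X.presheaf.germ (W ⊓ O) η (leOfHom i₁ hηP) (rres inf_le_right a), ?_⟩
    rw [mul_smul, ← e2]
    have h4 : (v : X.presheaf.stalk η) • z = germM N W η hη m := by rw [hv]; exact hms
    rw [← h4, smul_smul, Units.inv_mul, one_smul]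
  -- pieces of the big open near `x`
  have hpiece : ∀ y : (W ⊓ V : X.Opens), ∃ (U : X.Opens) (hUW : U ≤ W) (σ : Γ(N, U)) (c : Γ(X, U))
      (O : X.Opens), y.1 ∈ U ∧ IsGen N U σ ∧ res N hUW t = c • σ ∧ x ∈ O ∧ O ⊓ U ≤ X.basicOpen c := by
    intro y
    obtain ⟨U₁, σ₁, hy₁, -, hσ₁⟩ := ParaFLib.OpenData.exists_isGen_of_invertible_restrict hN y.2.2
    obtain ⟨U, hU, hyU, hUle⟩ := exists_isAffineOpen_mem_and_subset (U := U₁ ⊓ W) (x := y.1) ⟨hy₁, y.2.1⟩
    have hUW : U ≤ W := fun z hz => (hUle hz).2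
    have hU1 : U ≤ U₁ := fun z hz => (hUle hz).1
    have hσ := hσ₁.restrict hU1
    obtain ⟨c, hc, -⟩ := hσ.exists_eq le_rfl (res N hUW t)
    rw [res_self] at hc
    obtain ⟨O, hxO, hO⟩ := exists_nhd_basicOpen hW hU hUW hxW c fun η hη hsp => by
      rw [X.mem_basicOpen c η hη]
      obtain ⟨a, ha⟩ := hspan η (hUW hη) hsp (germM N U η hη (res N hU1 σ₁))
      have h3 : germM N W η (hUW hη) t = X.presheaf.germ U η hη c • germM N U η hη (res N hU1 σ₁) := by
        rw [← germM_smul, ← hc]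
        exact (N.presheaf.germ_res_apply _ η hη t).symm
      rw [h3, smul_smul] at ha
      have hinj := ((LFFrame.IsFrame.stalkComb_bijective ((isGen_iff_isFrame _).mp hσ)) η hη).1
      refine IsUnit.of_mul_eq_one_right a (congrFun (hinj (a₁ := fun _ => a * X.presheaf.germ U η hη c)
        (a₂ := fun _ => 1) ?_) 0)
      simpa [LFFrame.stalkComb, Fintype.linearCombination_apply] using ha.symm
    exact ⟨U, hUW, _, c, O, hyU, hσ, hc, hxO, hO⟩
  choose U hUW σ c O hyU hgen hc hxO hO using hpiece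
  haveI : IsNoetherianRing Γ(X, W) := IsLocallyNoetherian.component_noetherian ⟨W, hW⟩
  haveI : NoetherianSpace W := noetherianSpace_of_isAffineOpen W hW
  have hcomp : IsCompact ((W ⊓ V : X.Opens) : Set X) :=
    (noetherianSpace_set_iff (W : Set X)).1 (noetherianSpace_of_isAffineOpen W hW) _ fun _ hz => hz.1
  obtain ⟨s, hs⟩ := hcomp.elim_finite_subcover (fun y => (U y : Set X)) (fun y => (U y).isOpen)
    fun z hz => Set.mem_iUnion.2 ⟨⟨z, hz⟩, hyU ⟨z, hz⟩⟩
  let W' : X.Opens := W ⊓ s.inf O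
  have hxW' : x ∈ W' := ⟨hxW, Finset.inf_induction (p := fun P : X.Opens => x ∈ P) trivial
    (fun _ ha _ hb => ⟨ha, hb⟩) fun y _ => hxO y⟩
  have hle : W' ≤ W := inf_le_left
  -- generator on the big part
  have hbig : IsGen N (W' ⊓ V) (res N (inf_le_left.trans hle : W' ⊓ V ≤ W) t) := by
    refine IsGen.of_local fun z hz => ?_
    obtain ⟨y, hys, hzU⟩ := Set.mem_iUnion₂.1 (hs ⟨hz.1.1, hz.2⟩)
    have hb : U y ⊓ (W' ⊓ V) ≤ X.basicOpen (c y) := fun w hw =>
      hO y ⟨(Finset.inf_le (f := O) hys) hw.2.1.2, hw.1⟩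
    refine ⟨U y ⊓ (W' ⊓ V), inf_le_right, ⟨hzU, hz⟩, ?_⟩
    rw [res_res, show res N ((inf_le_right : U y ⊓ (W' ⊓ V) ≤ _).trans (inf_le_left.trans hle)) t =
      res N (inf_le_left : U y ⊓ (W' ⊓ V) ≤ U y) (res N (hUW y) t) from (res_res _ _ _ _).symm, hc, res_smul]
    refine ((hgen y).restrict _).smul_unit ?_
    have h5 : IsUnit ((X.presheaf.map (homOfLE hb).op).hom
        (X.presheaf.map (homOfLE (X.basicOpen_le (c y))).op (c y))) :=
      (RingedSpace.isUnit_res_basicOpen X.toRingedSpace (c y)).map _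
    rwa [show (X.presheaf.map (homOfLE hb).op).hom (X.presheaf.map (homOfLE (X.basicOpen_le (c y))).op (c y)) =
      rres (inf_le_left : U y ⊓ (W' ⊓ V) ≤ U y) (c y) from
        (ConcreteCategory.congr_hom (X.presheaf.map_comp _ _) (c y)).symm] at h5
  refine ⟨W', hxW', ParaFLib.OpenData.nonempty_iso_of_isGen (σ := res N hle t) ?_⟩
  intro P hP
  have hO2 := S1575.result X (Coh.structureModule X)
    (isCoh_of_isInvertible (ParaFLib.isInvertible_structureModule X)) V (fun y hy => by
      obtain ⟨e⟩ := exists_stalk_gen (ParaFLib.isInvertible_structureModule X) y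
      have h2 := hV y hy
      rw [Depth.depth_eq_idealDepth] at h2 ⊢
      rwa [← Depth.idealDepth_congr e]) P
  have hcomm : res N (inf_le_left : P ⊓ V ≤ P) ∘ sm (res N hle t) hP =
      sm (res N (inf_le_left.trans hle : W' ⊓ V ≤ W) t) (le_inf (inf_le_left.trans hP) inf_le_right) ∘
        rres (inf_le_left : P ⊓ V ≤ P) := funext fun a => by
    simp only [Function.comp_apply, sm, res_smul, res_res]
  have hb2 := (hbig (P ⊓ V) (le_inf (inf_le_left.trans hP) inf_le_right)).comp
    (show Function.Bijective (rres (inf_le_left : P ⊓ V ≤ P)) from hO2)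
  rw [← hcomm] at hb2
  exact (Function.Bijective.of_comp_iff' (hres P) _).1 hb2

/-- An invertible module on a big open extends if it does after a flat surjective base change. -/
theorem exists_extension [IsLocallyNoetherian X] (V : X.Opens)
    (hV : ∀ x : X, x ∉ V → 2 ≤ LocCoh.depth (X.presheaf.stalk x) (X.presheaf.stalk x))
    (L : (V : Scheme.{u}).Modules) (hL : PicF.IsInvertible L)
    (hloc : ∀ x : X, ∃ (X' : Scheme.{u}) (φ : X' ⟶ X), IsLocallyNoetherian X' ∧ Flat φ ∧ x ∈ Set.range φ.base ∧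
      ∃ M' : X'.Modules, PicF.IsInvertible M' ∧
        Nonempty ((Scheme.Modules.pullback (φ ⁻¹ᵁ V).ι).obj M' ≅ (Scheme.Modules.pullback (φ ∣_ V)).obj L)) :
    ∃ M : X.Modules, PicF.IsInvertible M ∧ Nonempty ((Scheme.Modules.pullback V.ι).obj M ≅ L) := by
  haveI : L.IsQuasicoherent := (isCoh_of_isInvertible hL).1
  haveI : ((Scheme.Modules.pushforward V.ι).obj L).IsQuasicoherent := QCoh.isQuasicoherent_pushforward V.ι L
  let cn : ((Scheme.Modules.pushforward V.ι).obj L).restrict V.ι ≅ L :=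
    (asIso (Scheme.Modules.restrictAdjunction V.ι).counit).app L
  have hinv : PicF.IsInvertible ((Scheme.Modules.pushforward V.ι).obj L) := by
    refine isInvertible_of_stalks V hV _ (PicCl.isInvertible_of_iso cn.symm hL) (fun W => ?_) fun x => ?_
    · have : V.ι ⁻¹ᵁ (W ⊓ V) = V.ι ⁻¹ᵁ W := Opens.ext (Set.ext fun z => ⟨fun h => h.1, fun h => ⟨h, z.2⟩⟩)
      haveI hiso : IsIso (homOfLE (this.le) : V.ι ⁻¹ᵁ (W ⊓ V) ⟶ V.ι ⁻¹ᵁ W) := ⟨homOfLE this.ge, rfl, rfl⟩
      exact ConcreteCategory.bijective_of_isIso (L.presheaf.map (homOfLE (show V.ι ⁻¹ᵁ (W ⊓ V) ≤ V.ι ⁻¹ᵁ W from fun z h => h.1)).op)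
    · obtain ⟨X', φ, _, _, ⟨z, rfl⟩, M', hM', ⟨e⟩⟩ := hloc x
      have hbc : IsIso (CohBC.bc0 V.ι φ (φ ⁻¹ᵁ V).ι (φ ∣_ V) (isPullback_morphismRestrict φ V).w L) :=
        CohBase.FlatBC.isIso_bc0_of_flat V.ι φ (φ ∣_ V) (φ ⁻¹ᵁ V).ι L (isPullback_morphismRestrict φ V)
      have hV' : ∀ w : X', w ∉ φ ⁻¹ᵁ V → 2 ≤ LocCoh.depth (X'.presheaf.stalk w) (X'.presheaf.stalk w) :=
        fun w hw => (hV _ hw).trans (depth_le_of_flat φ w)
      haveI := isIso_unit (φ ⁻¹ᵁ V) hV' hM'
      let i : (Scheme.Modules.pullback φ).obj ((Scheme.Modules.pushforward V.ι).obj L) ≅ M' :=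
        asIso (CohBC.bc0 V.ι φ (φ ⁻¹ᵁ V).ι (φ ∣_ V) (isPullback_morphismRestrict φ V).w L) ≪≫
          (Scheme.Modules.pushforward (φ ⁻¹ᵁ V).ι).mapIso
            (e.symm ≪≫ ((Scheme.Modules.restrictFunctorIsoPullback (φ ⁻¹ᵁ V).ι).app M').symm) ≪≫
          (asIso ((Scheme.Modules.restrictAdjunction (φ ⁻¹ᵁ V).ι).unit.app M')).symm
      obtain ⟨g⟩ := exists_stalk_gen (PicCl.isInvertible_of_iso i.symm hM') z
      letI := (φ.stalkMap z).hom.toAlgebra
      haveI := FDesc.Stalk.faithfullyFlat_stalkMap φ z (Flat.stalkMap φ z)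
      obtain ⟨eq, -⟩ := FDesc.Stalk.exists_stalk_equiv φ ((Scheme.Modules.pushforward V.ι).obj L) z
      exact free_one_of_baseChange (eq.trans g.symm)
  exact ⟨_, hinv, ⟨((Scheme.Modules.restrictFunctorIsoPullback V.ι).app _).symm ≪≫ cn⟩⟩

end Groth.Agent.DecCurve.ExtInv
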