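import Groth.Agent.DecCurve.Decor

/-!
# The family of semistable or sectionally semistable decorated modules
-/

set_option autoImplicit false
set_option linter.style.haveILetI false

universe u

open CategoryTheory CategoryTheory.Limits AlgebraicGeometry TopologicalSpace
open Groth.Agent.HilbPolyX Groth.Agent.ShStabLib

noncomputable section

namespace Groth.Agent.DecCurve

attribute [local irreducible] Curv2.euler DecSh.mult

variable {X : Scheme.{u}} (k : Type u) [Field k] [X.Over (Spec (CommRingCat.of k))]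
  [IsProper (X ↘ Spec (CommRingCat.of k))] [AlgebraicGeometry.IsReduced X] {L : X.Modules}
  (hL : CohB1.IsAmple L) (hdim : topologicalKrullDim X ≤ 1) (hpure : ∀ x : X, ¬ IsOpen ({x} : Set X))

/-- The quotient sectional condition. -/
def QuotSectional {F D : X.Modules} {a b : ℕ} (T : DecSh.TF F a b D) (L : X.Modules) (α : ℤ) (δ : ℚ)
    (m : ℕ) : Prop :=
  ∀ 𝓕 : DecSh.WFilt F, (∀ i, Coh.IsCoh ((𝓕.piece i : Subobject F) : X.Modules)) →
    (∑ i, 𝓕.wt i * ((DecSh.mult k X L (cokernel (𝓕.piece i).arrow) : ℚ) *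
        (Curv2.euler k X (ShStab.twist X L F m) : ℚ) -
      (α : ℚ) * (Module.finrank k (Coh.HH X (ShStab.twist X L (cokernel (𝓕.piece i).arrow) m) 0) : ℚ))) +
      δ * T.mu k L 𝓕 ≤ 0

omit [Field k] [X.Over (Spec (CommRingCat.of k))] [IsProper (X ↘ Spec (CommRingCat.of k))]
  [AlgebraicGeometry.IsReduced X] in
theorem nonempty_cokernel_mk {F Q : X.Modules} (g : F ⟶ Q) [Epi g] :
    Nonempty (cokernel (Subobject.mk (kernel.ι g)).arrow ≅ Q) := by
  have e : (Subobject.mk (kernel.ι g)).arrow =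
      (Subobject.underlyingIso (kernel.ι g)).hom ≫ kernel.ι g :=
    (Subobject.underlyingIso_hom_comp_eq_mk (kernel.ι g)).symm
  exact ⟨cokernelIsoOfEq e ≪≫ cokernelEpiComp _ _ ≪≫
    IsColimit.coconePointUniqueUpToIso (cokernelIsCokernel (kernel.ι g))
      (BoundSS.shortExact_epi g).gIsCokernel⟩

include k hL hdim hpure in
theorem sections_of_quotSectional {F : X.Modules} (hF : Coh.IsCoh F) (htf : TorSh.IsTorsionFree F)
    {α e : ℤ} (hα : DecSh.mult k X L F = α) (he : Curv2.euler k X F = e)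
    {D : X.Modules} {a b : ℕ} (T : DecSh.TF F a b D) {δ : ℚ} (hδ : 0 < δ) {m : ℕ}
    (hT : QuotSectional k T L α δ m)
    {Q : X.Modules} (g : F ⟶ Q) [Epi g] (hQ : Coh.IsCoh Q) (hQ0 : ¬ IsZero Q) :
    (DecSh.mult k X L Q : ℚ) * (((e : ℚ) - a * δ) / α + m) ≤ h0 k (ShStab.twist X L Q m) := by
  have hδa : 0 ≤ δ * (a : ℚ) := by positivity
  have hF0 : ¬ IsZero F := fun h => hQ0 (IsZero.of_epi g h)
  have hαpos : 0 < α := hα ▸ mult_pos_of_torsionFree k hL hdim hpure htf (𝟙 F) hF hF0
  have hαq : (0 : ℚ) < α := by exact_mod_cast hαpos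
  have hE := euler_twist k hL hdim hF m
  rw [hα, he] at hE
  by_cases hK0 : IsZero (kernel g)
  · haveI := HilbPolyX.isIso_of_epi_of_kernel g hK0
    rw [← mult_iso k (asIso g), hα,
      show h0 k (ShStab.twist X L Q m) = h0 k (ShStab.twist X L F m) from
        (h0_iso k ((twistF L m).mapIso (asIso g))).symm]
    have h1 : (Curv2.euler k X (ShStab.twist X L F m) : ℚ) ≤ h0 k (ShStab.twist X L F m) := by
      exact_mod_cast euler_le_h0 k hdim _
    rw [mul_add, mul_div_cancel₀ _ hαq.ne']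
    have hEq : (Curv2.euler k X (ShStab.twist X L F m) : ℚ) = e + m * α := by exact_mod_cast hE
    linarith
  · have hiso : ¬ IsIso (kernel.ι g) := fun h => hQ0 ((IsZero.iff_id_eq_zero Q).2
      ((cancel_epi g).1 ((cancel_epi (kernel.ι g)).1 (by simp))))
    have hKc := isCoh_of_kernel k g hF hQ
    have h := hT (singleMk (kernel.ι g) hK0 hiso)
      fun _ => CohDev.isCoh_of_iso (Subobject.underlyingIso (kernel.ι g)).symm hKc
    have hμ := mu_single_lower k hL hdim hpure hF htf (kernel.ι g) hKc hK0 hiso T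
    obtain ⟨e'⟩ := nonempty_cokernel_mk g
    have hsum : ∀ f : Subobject F → ℚ, ∑ i, (singleMk (kernel.ι g) hK0 hiso).wt i *
        f ((singleMk (kernel.ι g) hK0 hiso).piece i) = f (Subobject.mk (kernel.ι g)) := fun f => by
      show ∑ i : Fin 1, (1 : ℚ) * f (Subobject.mk (kernel.ι g)) = _
      simp
    rw [hsum fun P => (DecSh.mult k X L (cokernel P.arrow) : ℚ) *
        (Curv2.euler k X (ShStab.twist X L F m) : ℚ) -
      (α : ℚ) * (Module.finrank k (Coh.HH X (ShStab.twist X L (cokernel P.arrow) m) 0) : ℚ),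
      mult_iso k e'] at h
    have e2 : Module.finrank k (Coh.HH X (ShStab.twist X L (cokernel (Subobject.mk (kernel.ι g)).arrow) m) 0) =
        h0 k (ShStab.twist X L Q m) := h0_iso k ((twistF L m).mapIso e')
    rw [e2] at h
    have a1 := mult_epi k hL hdim g hF hQ
    rw [hα] at a1 hμ
    have a1q : (α : ℚ) = DecSh.mult k X L (kernel g) + DecSh.mult k X L Q := by exact_mod_cast a1
    have hEq : (Curv2.euler k X (ShStab.twist X L F m) : ℚ) = e + m * α := by exact_mod_cast hE
    rw [hEq] at h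
    rw [mul_add, mul_div_assoc', ← le_sub_iff_add_le, div_le_iff₀ hαq]
    nlinarith [mul_le_mul_of_nonneg_left hμ hδ.le]

include k hL hdim hpure in
/-- The Euler characteristics of quotients are bounded below in the semistable or sectional family. -/
theorem exists_family_bound (δ : ℚ) (hδ : 0 < δ) (α e : ℤ) (a : ℕ) :
    ∃ (N₁ : ℕ) (Dq : ℤ), ∀ (F : X.Modules), Coh.IsCoh F → TorSh.IsTorsionFree F →
      DecSh.mult k X L F = α → Curv2.euler k X F = e →
      ∀ (b : ℕ) (D : X.Modules) (T : DecSh.TF F a b D),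
        (T.IsSemistable k L δ ∨ ∃ m : ℕ, N₁ ≤ m ∧ QuotSectional k T L α δ m) →
        QuotBound k Dq F := by
  let c₀ : ℚ := ((e : ℚ) - a * δ) / α
  obtain ⟨D₁, hD₁⟩ := exists_quotBound_of_sectional k hL hdim α c₀
  let B : ℤ := ⌈|(e : ℚ) / α + δ * a| * α.natAbs⌉
  refine ⟨⌊-c₀⌋.toNat + 1, min D₁ (e - B), fun F hF htf hα he b D T hT => ?_⟩
  rcases hT with hT | ⟨m, hm, hT⟩
  · intro Q g hg hQ
    refine (min_le_right _ _).trans ?_
    have h1 := euler_epi k g hF hQ
    suffices hK : Curv2.euler k X (kernel g) ≤ B by omega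
    have hB0 : 0 ≤ B := Int.ceil_nonneg (by positivity)
    by_cases hK0 : IsZero (kernel g)
    · rwa [EulerChar.euler_of_isZero k hK0]
    have hKc := isCoh_of_kernel k g hF hQ
    have hS := slopeLE_of_semistable k hL hdim hpure hF htf hα he T hδ hT _ (kernel.ι g) inferInstance hKc hK0
    have h2 : (DecSh.mult k X L (kernel g) : ℚ) ≤ (α.natAbs : ℚ) := by
      have h2 := mult_le_of_mono k hL hdim (kernel.ι g) hKc hF
      calc (DecSh.mult k X L (kernel g) : ℚ) ≤ (((α.natAbs : ℕ) : ℤ) : ℚ) := Int.cast_le.2 (by omega)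
        _ = _ := Int.cast_natCast _
    have h3 : (0 : ℚ) ≤ DecSh.mult k X L (kernel g) := by exact_mod_cast mult_nonneg k hL hdim hKc
    have h4 : (Curv2.euler k X (kernel g) : ℚ) ≤ B :=
      hS.trans (((mul_le_mul_of_nonneg_right (le_abs_self _) h3).trans
        (mul_le_mul_of_nonneg_left h2 (abs_nonneg _))).trans (Int.le_ceil _))
    exact_mod_cast h4
  · have hpos : 0 < c₀ + m := by
      have h1 := Int.lt_floor_add_one (-c₀)
      have h2 : ⌊-c₀⌋ + 1 ≤ (m : ℤ) := by omega
      have h3 : ((⌊-c₀⌋ : ℤ) : ℚ) + 1 ≤ (m : ℚ) := by exact_mod_cast h2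
      linarith
    have h := hD₁ F hF (pure1_of_torsionFree k hL hdim hpure htf) hα m hpos
      fun Q g hg hQ hQ0 => sections_of_quotSectional k hL hdim hpure hF htf hα he T hδ hT g hQ hQ0
    exact fun Q g hg hQ => (min_le_left _ _).trans (h Q g hg hQ)

end Groth.Agent.DecCurve

end
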