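import Groth.Agent.DecCurve.Basic

/-!
# Bounds on the weights of multi-indices
-/

set_option autoImplicit false

universe v u

open CategoryTheory CategoryTheory.Limits

noncomputable section

namespace Groth.Agent.DecCurve.Gam

variable {C : Type u} [Category.{v} C] {E : C} (𝓕 : DecSh.WFilt E) (αE : ℤ) (α : Subobject E → ℤ)
  {a : ℕ} (I : Fin a → Fin (𝓕.t + 1))

theorem nu_le (i : Fin 𝓕.t) : 𝓕.nu αE α I i ≤ a :=
  (Finset.card_filter_le _ _).trans (by simp)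

variable (hα : ∀ i, 1 ≤ α (𝓕.piece i) ∧ α (𝓕.piece i) ≤ αE)

include hα

theorem mulX_le (j : Fin (𝓕.t + 1)) : 𝓕.mulX αE α j ≤ αE := by
  induction j using Fin.lastCases with
  | last => simp
  | cast i => simpa using (hα i).2

theorem one_le_top : 1 ≤ αE := (hα ⟨0, 𝓕.t_pos⟩).1.trans (hα ⟨0, 𝓕.t_pos⟩).2

theorem term_lower (i : Fin 𝓕.t) :
    (a : ℚ) * ((α (𝓕.piece i) : ℚ) - αE) ≤
      (a : ℚ) * (α (𝓕.piece i) : ℚ) - (𝓕.nu αE α I i : ℚ) * (αE : ℚ) := by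
  have h1 : (𝓕.nu αE α I i : ℚ) ≤ a := by exact_mod_cast nu_le 𝓕 αE α I i
  have h2 : (1 : ℚ) ≤ αE := by exact_mod_cast one_le_top 𝓕 αE α hα
  nlinarith [mul_le_mul_of_nonneg_right h1 (show (0 : ℚ) ≤ αE by linarith)]

theorem abs_term_le (i : Fin 𝓕.t) :
    |(a : ℚ) * (α (𝓕.piece i) : ℚ) - (𝓕.nu αE α I i : ℚ) * (αE : ℚ)| ≤ (a : ℚ) * ((αE : ℚ) - 1) := by
  rcases eq_or_lt_of_le (hα i).2 with h | h
  · have hν : 𝓕.nu αE α I i = a := by
      rw [DecSh.WFilt.nu, Finset.filter_true_of_mem fun j _ => h ▸ mulX_le 𝓕 αE α hα (I j)]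
      simp
    rw [hν, h, sub_self, abs_zero]
    refine mul_nonneg (Nat.cast_nonneg a) ?_
    have : (1 : ℚ) ≤ αE := by exact_mod_cast one_le_top 𝓕 αE α hα
    linarith
  · have h1 : (𝓕.nu αE α I i : ℚ) ≤ a := by exact_mod_cast nu_le 𝓕 αE α I i
    have h2 : (0 : ℚ) ≤ (𝓕.nu αE α I i : ℚ) := Nat.cast_nonneg _
    have h3 : (1 : ℚ) ≤ α (𝓕.piece i) := by exact_mod_cast (hα i).1
    have h4 : (α (𝓕.piece i) : ℚ) ≤ (αE : ℚ) - 1 := by exact_mod_cast (by omega : α (𝓕.piece i) ≤ αE - 1)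
    have h5 : (0 : ℚ) ≤ a := Nat.cast_nonneg _
    rw [abs_le]
    constructor <;>
      nlinarith [mul_le_mul_of_nonneg_left h4 h5, mul_le_mul_of_nonneg_left h3 h5,
        mul_le_mul_of_nonneg_right h1 (show (0 : ℚ) ≤ αE by linarith),
        mul_nonneg h2 (show (0 : ℚ) ≤ αE by linarith)]

theorem abs_gam_le : |𝓕.gam αE α I| ≤ (∑ i, 𝓕.wt i) * (a : ℚ) * ((αE : ℚ) - 1) := by
  rw [DecSh.WFilt.gam, mul_assoc, Finset.sum_mul]
  refine (Finset.abs_sum_le_sum_abs _ _).trans (Finset.sum_le_sum fun i _ => ?_)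
  rw [abs_mul, abs_of_pos (𝓕.wt_pos i)]
  exact mul_le_mul_of_nonneg_left (abs_term_le 𝓕 αE α I hα i) (𝓕.wt_pos i).le

theorem gam_lower :
    (a : ℚ) * ∑ i, 𝓕.wt i * ((α (𝓕.piece i) : ℚ) - αE) ≤ 𝓕.gam αE α I := by
  rw [DecSh.WFilt.gam, Finset.mul_sum]
  refine Finset.sum_le_sum fun i _ => ?_
  rw [mul_left_comm]
  exact mul_le_mul_of_nonneg_left (term_lower 𝓕 αE α I hα i) (𝓕.wt_pos i).le

theorem abs_mu_le (N : DecSh.NV E a) :
    |𝓕.mu αE α N| ≤ (∑ i, 𝓕.wt i) * (a : ℚ) * ((αE : ℚ) - 1) := by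
  obtain ⟨J, -, hJ⟩ := 𝓕.exists_gam_eq_mu αE α N
  rw [← hJ]
  exact abs_gam_le 𝓕 αE α J hα

theorem mu_lower (N : DecSh.NV E a) :
    (a : ℚ) * ∑ i, 𝓕.wt i * ((α (𝓕.piece i) : ℚ) - αE) ≤ 𝓕.mu αE α N := by
  obtain ⟨J, -, hJ⟩ := 𝓕.exists_gam_eq_mu αE α N
  rw [← hJ]
  exact gam_lower 𝓕 αE α J hα

theorem mu_le_sub (N : DecSh.NV E a) (𝓕₁ : DecSh.WFilt E) (e : Fin 𝓕₁.t → Fin 𝓕.t)
    (hpiece : ∀ j, 𝓕₁.piece j = 𝓕.piece (e j)) (hwt : ∀ j, 𝓕₁.wt j = 𝓕.wt (e j)) :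
    𝓕.mu αE α N ≤ 𝓕₁.mu αE α N +
      ((∑ i, 𝓕.wt i) - ∑ j, 𝓕₁.wt j) * (a : ℚ) * ((αE : ℚ) - 1) := by
  classical
  obtain ⟨J, hJ, hJμ⟩ := 𝓕₁.exists_gam_eq_mu αE α N
  let lift : Fin (𝓕₁.t + 1) → Fin (𝓕.t + 1) :=
    Fin.lastCases (Fin.last _) fun j => (e j).castSucc
  have hp : ∀ j, 𝓕.pieceX (lift j) = 𝓕₁.pieceX j := fun j => by
    induction j using Fin.lastCases with
    | last => simp [lift]
    | cast i => simp [lift, hpiece]
  have hm : ∀ j, 𝓕.mulX αE α (lift j) = 𝓕₁.mulX αE α j := fun j => by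
    induction j using Fin.lastCases with
    | last => simp [lift]
    | cast i => simp [lift, hpiece]
  let I' : Fin a → Fin (𝓕.t + 1) := fun j => lift (J j)
  have hadm : 𝓕.Adm N I' := by
    simpa only [DecSh.WFilt.Adm, I', hp] using hJ
  refine (𝓕.mu_le_gam αE α N hadm).trans ?_
  have hν : ∀ i, 𝓕.nu αE α I' (e i) = 𝓕₁.nu αE α J i := fun i => by
    simp [DecSh.WFilt.nu, I', hm, hpiece]
  have he : Function.Injective e := fun x y h =>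
    𝓕₁.piece_strictMono.injective (by rw [hpiece, hpiece, h])
  have split : ∀ f : Fin 𝓕.t → ℚ,
      ∑ i, f i = (∑ j, f (e j)) + ∑ i ∈ (Finset.univ.image e)ᶜ, f i := fun f => by
    rw [← Finset.sum_add_sum_compl (Finset.univ.image e) f, Finset.sum_image fun x _ y _ h => he h]
  rw [DecSh.WFilt.gam, split, split 𝓕.wt, ← hJμ, DecSh.WFilt.gam]
  simp only [hwt, hν, hpiece, add_sub_cancel_left]
  refine add_le_add le_rfl ?_
  rw [mul_assoc, Finset.sum_mul]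
  refine Finset.sum_le_sum fun i _ => mul_le_mul_of_nonneg_left ?_ (𝓕.wt_pos i).le
  exact (le_abs_self _).trans (abs_term_le 𝓕 αE α I' hα i)

end Groth.Agent.DecCurve.Gam

open AlgebraicGeometry

namespace Groth.Agent.DecCurve

attribute [local irreducible] DecSh.mult Curv2.euler

variable {X : Scheme.{u}} (k : Type u) [Field k] [X.Over (Spec (CommRingCat.of k))]
  [IsProper (X ↘ Spec (CommRingCat.of k))] {L : X.Modules} (hL : CohB1.IsAmple L)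
  (hdim : topologicalKrullDim X ≤ 1)

include hL hdim in
theorem mult_le_of_mono {F E : X.Modules} (ι : F ⟶ E) [Mono ι] (hF : Coh.IsCoh F) (hE : Coh.IsCoh E) :
    DecSh.mult k X L F ≤ DecSh.mult k X L E := by
  have h1 := mult_mono k hL hdim ι hF hE
  have h2 := mult_nonneg k hL hdim (HilbPolyX.isCoh_of_monoCokernel ι hF hE)
  omega

include hL hdim in
theorem piece_bounds [AlgebraicGeometry.IsReduced X] (hpure : ∀ x : X, ¬ IsOpen ({x} : Set X))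
    {E : X.Modules} (hE : Coh.IsCoh E) (htf : TorSh.IsTorsionFree E) (𝓕 : DecSh.WFilt E)
    (hcoh : ∀ i, Coh.IsCoh ((𝓕.piece i : Subobject E) : X.Modules)) (i : Fin 𝓕.t) :
    1 ≤ DecSh.mult k X L ((𝓕.piece i : Subobject E) : X.Modules) ∧
      DecSh.mult k X L ((𝓕.piece i : Subobject E) : X.Modules) ≤ DecSh.mult k X L E :=
  ⟨mult_pos_of_torsionFree k hL hdim hpure htf (𝓕.piece i).arrow (hcoh i) (𝓕.piece_nonzero i),
    mult_le_of_mono k hL hdim (𝓕.piece i).arrow (hcoh i) hE⟩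

end Groth.Agent.DecCurve

end
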