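import Groth.Agent.DecCurve.Basic
import Groth.Agent.ShStabLib.BC.Sys
import Groth.Agent.Props.AmpleGG

/-!
# Generation by global sections
-/

set_option autoImplicit false
set_option linter.style.haveILetI false

universe u

open CategoryTheory CategoryTheory.Limits AlgebraicGeometry Opposite TopologicalSpace
open Groth.Agent.ShStabLib

noncomputable section

namespace Groth.Agent.DecCurve

attribute [local irreducible] Curv2.euler DecSh.mult

variable {X : Scheme.{u}}

/-- No nonzero map out of `G` kills all global sections. -/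
def GenBySec (G : X.Modules) : Prop :=
  ∀ {Z : X.Modules} (ψ : G ⟶ Z), (∀ s : Coh.structureModule X ⟶ G, s ≫ ψ = 0) → ψ = 0

theorem GenBySec.isGloballyGenerated {G : X.Modules} (h : GenBySec G) :
    Curv2.IsGloballyGenerated G := by
  let p : (SheafOfModules.free (Coh.structureModule X ⟶ G) : X.Modules) ⟶ G :=
    Sigma.desc fun s => s
  refine ⟨_, p, Preadditive.epi_of_cancel_zero p fun {Z} g hg => ?_⟩
  let Z' : X.Modules := Z
  let g' : @Quiver.Hom X.Modules _ G Z' := g
  change g' = 0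
  refine h g' fun s => ?_
  have : Sigma.ι (fun _ : (Coh.structureModule X ⟶ G) => Coh.structureModule X) s ≫ p = s :=
    Sigma.ι_desc _ s
  rw [← this]
  exact (Category.assoc _ _ _).trans ((congrArg (_ ≫ ·) hg).trans comp_zero)

theorem genBySec_of_isGloballyGenerated {G : X.Modules} (h : Curv2.IsGloballyGenerated G) :
    GenBySec G := by
  obtain ⟨ι, p, hp⟩ := h
  intro Z ψ hψ
  let p' : (SheafOfModules.free ι : X.Modules) ⟶ G := p
  haveI : Epi p' := hp
  refine (cancel_epi p').1 (Eq.trans ?_ comp_zero.symm)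
  refine Sigma.hom_ext _ _ fun i => Eq.trans ?_ comp_zero.symm
  exact (Category.assoc _ _ _).symm.trans
    (hψ (Sigma.ι (fun _ : ι => SheafOfModules.unit X.ringCatSheaf) i ≫ p'))

theorem GenBySec.of_epi {G H : X.Modules} (h : GenBySec G) (g : G ⟶ H) [Epi g] : GenBySec H :=
  fun ψ hψ => (cancel_epi g).1 ((h (g ≫ ψ) fun s => by
    rw [← Category.assoc]; exact hψ (s ≫ g)).trans comp_zero.symm)

variable (k : Type u) [Field k] [X.Over (Spec (CommRingCat.of k))]
  [IsProper (X ↘ Spec (CommRingCat.of k))]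

include k in
/-- A coherent module with zero-dimensional support is generated by its sections. -/
theorem genBySec_of_support {G : X.Modules} (hG : Coh.IsCoh G)
    (h : topologicalKrullDim ↥(CohB1.support G) ≤ 0) : GenBySec G := by
  intro Z ψ hψ
  haveI := EulerChar.isFlasque_of_support k hG h
  refine Scheme.Modules.hom_ext _ _ fun U => ?_
  ext m
  have hsur := TopCat.Presheaf.IsFlasque.epi (X := X.toPresheafedSpace.carrier)
    (F := (Coh.toAb G).obj) (homOfLE (le_top : U ≤ ⊤)).op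
  obtain ⟨t', ht'⟩ := (AddCommGrpCat.epi_iff_surjective _).mp hsur m
  let t : Γ(G, ⊤) := t'
  obtain rfl : QCoh.res G le_top t = m := ht'
  have ht : ψ.app ⊤ t = 0 := by
    have h1 := hψ (Props.GenLocus.homOfSec t)
    have h2 : Props.GenLocus.sec (Props.GenLocus.homOfSec t ≫ ψ) ⊤ = 0 := by
      rw [h1]
      rfl
    rwa [show Props.GenLocus.sec (Props.GenLocus.homOfSec t ≫ ψ) ⊤ =
        ψ.app ⊤ (Props.GenLocus.sec (Props.GenLocus.homOfSec t) ⊤) from rfl,
      Props.GenLocus.sec_homOfSec t ⊤, QCoh.res_self] at h2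
  show ψ.app U (QCoh.res G le_top t) = 0
  rw [QCoh.app_res, ht, map_zero]

omit [IsProper (X ↘ Spec (CommRingCat.of k))] in
include k in
/-- Sections lift along an epimorphism with acyclic kernel. -/
theorem exists_lift {S : ShortComplex X.Modules} (hS : S.ShortExact)
    (h : Subsingleton (Coh.HH X S.X₁ 1)) (s : Coh.structureModule X ⟶ S.X₃) :
    ∃ t, t ≫ S.g = s := by
  obtain ⟨y, hy⟩ := CohLin.exists_hMap_g_eq hS (BC.secEquiv k S.X₃ s) (h.elim _ _)
  obtain ⟨t, rfl⟩ := (BC.secEquiv k S.X₂).surjective y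
  refine ⟨t, (BC.secEquiv k S.X₃).injective (Eq.trans ?_ hy)⟩
  refine (BC.h0Equiv k S.X₃).injective ?_
  show (BC.h0Equiv k S.X₃) ((BC.h0Equiv k S.X₃).symm (Props.GenLocus.sec (t ≫ S.g) ⊤)) = _
  rw [LinearEquiv.apply_symm_apply]
  show S.g.app ⊤ (Props.GenLocus.sec t ⊤) =
    Sheaf.H.equiv₀ (Coh.toAb S.X₃) isTerminalTop (Sheaf.H.map _ 0 _)
  rw [← Sheaf.H.equiv₀_naturality]
  congr 1
  exact ((BC.h0Equiv k S.X₂).apply_symm_apply (Props.GenLocus.sec t ⊤)).symm

omit [IsProper (X ↘ Spec (CommRingCat.of k))] in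
include k in
/-- An extension of modules generated by sections, with acyclic submodule. -/
theorem genBySec_mid {S : ShortComplex X.Modules} (hS : S.ShortExact)
    (h : Subsingleton (Coh.HH X S.X₁ 1)) (h1 : GenBySec S.X₁) (h3 : GenBySec S.X₃) :
    GenBySec S.X₂ := by
  intro Z ψ hψ
  haveI := hS.epi_g
  have hf : S.f ≫ ψ = 0 := h1 _ fun s => by rw [← Category.assoc]; exact hψ (s ≫ S.f)
  obtain ⟨χ, hχ⟩ : ∃ χ : S.X₃ ⟶ Z, S.g ≫ χ = ψ :=
    ⟨hS.exact.desc ψ hf, hS.exact.g_desc ψ hf⟩
  rw [← hχ, h3 χ fun s => ?_, comp_zero]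
  obtain ⟨t, rfl⟩ := exists_lift k hS h s
  rw [Category.assoc, hχ]
  exact hψ t

end Groth.Agent.DecCurve

end
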