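import Groth.Agent.DecCurve.Vanish
import Groth.Agent.DecCurve.Gam
import Groth.Agent.NumTriv.Union

/-!
# Submodules of near-maximal slope in a bounded family
-/

set_option autoImplicit false
set_option linter.style.haveILetI false

universe u

open CategoryTheory CategoryTheory.Limits AlgebraicGeometry

noncomputable section

namespace Groth.Agent.DecCurve

attribute [local irreducible] Curv2.euler DecSh.mult

variable {X : Scheme.{u}} (k : Type u) [Field k] [X.Over (Spec (CommRingCat.of k))]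
  [IsProper (X ↘ Spec (CommRingCat.of k))] {L : X.Modules} (hL : CohB1.IsAmple L)
  (hdim : topologicalKrullDim X ≤ 1)

include k hL hdim in
theorem isBounded_near (α e Dq : ℤ) (C c₀ : ℚ) (P : X.Modules → Prop)
    (hP : ∀ F', P F' → Coh.IsCoh F' ∧ ∃ (F : X.Modules) (ι : F' ⟶ F), Mono ι ∧ Coh.IsCoh F ∧
      DecSh.mult k X L F = α ∧ Curv2.euler k X F = e ∧ QuotBound k Dq F ∧
      |(Curv2.euler k X F' : ℚ) - (DecSh.mult k X L F' : ℚ) * c₀| ≤ C) :
    Pic13.IsBounded k X P := by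
  classical
  let lo : ℤ := ⌊-((α.natAbs : ℚ) * |c₀|) - C⌋
  let hi : ℤ := ⌈(α.natAbs : ℚ) * |c₀| + C⌉
  let box : Fin ((α.natAbs + 1) * ((hi - lo).toNat + 1)) → ℤ × ℤ := fun i =>
    (((i.1 % (α.natAbs + 1) : ℕ) : ℤ), lo + ((i.1 / (α.natAbs + 1) : ℕ) : ℤ))
  have hb := NumTriv.Union.isBounded_iUnion (k := k) (X := X)
    (P := fun i F' => P F' ∧ DecSh.mult k X L F' = (box i).1 ∧ Curv2.euler k X F' = (box i).2)
    fun i => by
      refine isBounded_of_quotBound k hL hdim _ (box i).1 (box i).2 ((box i).2 - (e - Dq)) fun F' hF' => ?_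
      obtain ⟨hp, h1, h2⟩ := hF'
      obtain ⟨hF'c, F, ι, hι, hFc, hα, he, hq, -⟩ := hP F' hp
      refine ⟨hF'c, h1, h2, fun Q g hg hQ => ?_⟩
      haveI := hι
      have hK := HilbPolyX.isCoh_of_kernel k g hF'c hQ
      haveI : Mono (kernel.ι g ≫ ι) := mono_comp _ _
      have e1 := euler_epi k g hF'c hQ
      have e2 := euler_mono k (kernel.ι g ≫ ι) hK hFc
      have e3 := hq _ (cokernel.π (kernel.ι g ≫ ι)) inferInstance
        (HilbPolyX.isCoh_of_monoCokernel _ hK hFc)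
      omega
  obtain ⟨T, q, hft, hqc, U, hU, hfib⟩ := hb
  refine ⟨T, q, hft, hqc, U, hU, fun F' hp => hfib F' ?_⟩
  obtain ⟨hF'c, F, ι, hι, hFc, hα, he, -, hC⟩ := hP F' hp
  haveI := hι
  have h0 := mult_nonneg k hL hdim hF'c
  have h1 := mult_le_of_mono k hL hdim ι hF'c hFc
  rw [hα] at h1
  have h1' : DecSh.mult k X L F' ≤ ((α.natAbs : ℕ) : ℤ) := by omega
  have h2 : (DecSh.mult k X L F' : ℚ) ≤ (α.natAbs : ℚ) :=
    calc (DecSh.mult k X L F' : ℚ) ≤ (((α.natAbs : ℕ) : ℤ) : ℚ) := Int.cast_le.2 h1'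
      _ = _ := Int.cast_natCast _
  have h3 : (0 : ℚ) ≤ DecSh.mult k X L F' := by exact_mod_cast h0
  obtain ⟨hC1, hC2⟩ := abs_le.1 hC
  have h4 : |(DecSh.mult k X L F' : ℚ) * c₀| ≤ (α.natAbs : ℚ) * |c₀| := by
    rw [abs_mul, abs_of_nonneg h3]
    exact mul_le_mul_of_nonneg_right h2 (abs_nonneg _)
  obtain ⟨h5, h6⟩ := abs_le.1 h4
  have hlo : lo ≤ Curv2.euler k X F' := by
    have : (lo : ℚ) ≤ Curv2.euler k X F' := (Int.floor_le _).trans (by linarith)
    exact_mod_cast this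
  have hhi : Curv2.euler k X F' ≤ hi := by
    have : (Curv2.euler k X F' : ℚ) ≤ hi := le_trans (by linarith) (Int.le_ceil _)
    exact_mod_cast this
  have hA : (DecSh.mult k X L F').toNat < α.natAbs + 1 := by omega
  have hB : (Curv2.euler k X F' - lo).toNat < (hi - lo).toNat + 1 := by omega
  refine ⟨⟨(DecSh.mult k X L F').toNat + (α.natAbs + 1) * (Curv2.euler k X F' - lo).toNat, ?_⟩, hp, ?_, ?_⟩
  · calc (DecSh.mult k X L F').toNat + (α.natAbs + 1) * (Curv2.euler k X F' - lo).toNat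
        < (α.natAbs + 1) * ((Curv2.euler k X F' - lo).toNat + 1) := by rw [Nat.mul_add, mul_one]; omega
      _ ≤ _ := Nat.mul_le_mul_left _ hB
  · simp only [box, Nat.add_mul_mod_self_left, Nat.mod_eq_of_lt hA]
    omega
  · simp only [box, Nat.add_mul_div_left _ _ (Nat.succ_pos α.natAbs), Nat.div_eq_of_lt hA, zero_add]
    omega

end Groth.Agent.DecCurve

end
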