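import Groth.Agent.DecCurve.Slope
import Groth.Agent.Props.QProj
import Groth.Agent.S9407

/-!
# Parabolic decorations
-/

set_option autoImplicit false
set_option linter.style.haveILetI false

universe u

open CategoryTheory CategoryTheory.Limits AlgebraicGeometry

noncomputable section

namespace Groth.Agent.DecCurve

attribute [local irreducible] DecSh.mult Curv2.euler

variable {X : Scheme.{u}}

theorem isTorsionFree_of_isFinLocFree {E : X.Modules} (hq : E.IsQuasicoherent)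
    (hE : FlatMod.IsFinLocFree E) : TorSh.IsTorsionFree E := fun x => by
  haveI := hq
  haveI := (Props.QProj.free_stalk (M := E) hE x).1
  infer_instance

variable (k : Type u) [Field k] [X.Over (Spec (CommRingCat.of k))]

/-- The correction term `Σ κ_i dim q_i(F)`. -/
theorem parChi_bounds {ν : ℕ} (I : Fin ν → X.IdealSheafData) {E : X.Modules}
    (K : ∀ i, Submodule k (ParSh.fibD X (I i) E)) {r : ℕ} (hr : 0 < r)
    (hK : ∀ i, Module.finrank k (ParSh.fibD X (I i) E ⧸ K i) = r)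
    (κ : Fin ν → ℚ) (hκ : ∀ i, 0 < κ i ∧ κ i < 1) {F : X.Modules} (ι : F ⟶ E) :
    (Curv2.euler k X F : ℚ) - (r : ℚ) * (ν : ℚ) ≤ DecSh.parChi k I K κ ι ∧
      DecSh.parChi k I K κ ι ≤ (Curv2.euler k X F : ℚ) := by
  unfold DecSh.parChi
  refine ⟨sub_le_sub_left (le_trans (Finset.sum_le_sum fun i _ => (?_ : _ ≤ (r : ℚ))) (le_of_eq ?_)) _,
    sub_le_self _ (Finset.sum_nonneg fun i _ => mul_nonneg (hκ i).1.le (Nat.cast_nonneg _))⟩
  · haveI : Module.Finite k (ParSh.fibD X (I i) E ⧸ K i) :=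
      Module.finite_of_finrank_pos (by rw [hK i]; exact hr)
    refine (mul_le_of_le_one_left (Nat.cast_nonneg _) (hκ i).2.le).trans ?_
    exact_mod_cast (Submodule.finrank_le _).trans (hK i).le
  · simp [mul_comm]

variable [IsProper (X ↘ Spec (CommRingCat.of k))] [AlgebraicGeometry.IsReduced X] {L : X.Modules}
  (hL : CohB1.IsAmple L) (hdim : topologicalKrullDim X ≤ 1) (hpure : ∀ x : X, ¬ IsOpen ({x} : Set X))

include hL hdim hpure in
theorem parSemistable_bound {E : X.Modules} (hE : Coh.IsCoh E) (htf : TorSh.IsTorsionFree E)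
    {ν : ℕ} (I : Fin ν → X.IdealSheafData) (K : ∀ i, Submodule k (ParSh.fibD X (I i) E)) {r : ℕ}
    (hr : 0 < r) (hK : ∀ i, Module.finrank k (ParSh.fibD X (I i) E ⧸ K i) = r)
    (κ : Fin ν → ℚ) (hκ : ∀ i, 0 < κ i ∧ κ i < 1)
    {D : X.Modules} {a b : ℕ} (T : DecSh.TF E a b D) {δ : ℚ} (hδ : 0 < δ)
    (hT : T.IsParSemistable k I K κ L δ) {F : X.Modules} (ι : F ⟶ E) [Mono ι] (hF : Coh.IsCoh F)
    (hF0 : ¬ IsZero F) (hι : ¬ IsIso ι) :
    (DecSh.mult k X L E : ℚ) * (Curv2.euler k X F : ℚ) -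
        (DecSh.mult k X L F : ℚ) * (Curv2.euler k X E : ℚ) ≤
      δ * (a : ℚ) * ((DecSh.mult k X L E : ℚ) - (DecSh.mult k X L F : ℚ)) +
        (DecSh.mult k X L E : ℚ) * ((r : ℚ) * (ν : ℚ)) := by
  have hc : ∀ i, Coh.IsCoh (((singleMk ι hF0 hι).piece i : Subobject E) : X.Modules) :=
    fun _ => CohDev.isCoh_of_iso (Subobject.underlyingIso ι).symm hF
  have h := hT (singleMk ι hF0 hι) hc
  have hμ := mu_single_lower k hL hdim hpure hE htf ι hF hF0 hι T
  let P : Subobject E := Subobject.mk ι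
  have hP := parChi_bounds k I K hr hK κ hκ P.arrow
  have hEb := parChi_bounds k I K hr hK κ hκ (𝟙 E)
  have e1 := EulerChar.euler_iso k (Subobject.underlyingIso ι)
  have e2 := mult_iso k (L := L) (Subobject.underlyingIso ι)
  have hα1 : (0 : ℚ) ≤ DecSh.mult k X L E := by exact_mod_cast mult_nonneg k hL hdim hE
  have hα2 : (0 : ℚ) ≤ DecSh.mult k X L F := by exact_mod_cast mult_nonneg k hL hdim hF
  have hs : (singleMk ι hF0 hι).msum (DecSh.mult k X L E) (fun P => DecSh.mult k X L (P : X.Modules))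
      (DecSh.parChi k I K κ (𝟙 E)) (fun P => DecSh.parChi k I K κ P.arrow) =
      (DecSh.mult k X L E : ℚ) * DecSh.parChi k I K κ P.arrow -
        (DecSh.mult k X L F : ℚ) * DecSh.parChi k I K κ (𝟙 E) := by
    rw [DecSh.WFilt.msum]
    simp only [singleMk_piece, e2]
    show ∑ i : Fin 1, (1 : ℚ) * _ = _
    simp [P]
  change _ + δ * T.mu k L (singleMk ι hF0 hι) ≤ 0 at h
  rw [hs] at h
  have hP1 := hP.1
  rw [show (Curv2.euler k X (P : X.Modules) : ℚ) = Curv2.euler k X F by exact_mod_cast e1] at hP1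
  nlinarith [mul_le_mul_of_nonneg_left hμ hδ.le, mul_le_mul_of_nonneg_left hP1 hα1,
    mul_le_mul_of_nonneg_left hEb.2 hα2]

end Groth.Agent.DecCurve

end

namespace Groth.Agent.DecCurve

/-- A module locally free of rank zero is zero. -/
theorem isZero_of_rank_zero {X : Scheme.{u}} {E : X.Modules}
    (hE : FlatMod.IsFinLocFreeOfRank 0 E) : IsZero E := by
  choose U hxU φ using hE
  have hz : ∀ x : X, IsZero (E.restrict (U x).ι) := fun x => by
    refine IsZero.of_iso ?_ (φ x).some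
    refine (IsZero.iff_id_eq_zero _).2 (Sigma.hom_ext _ _ fun i => i.elim0)
  refine (IsZero.iff_id_eq_zero E).2 (Scheme.Modules.hom_ext _ _ fun W => ?_)
  ext m
  change m = 0
  refine QCoh.eq_zero_of_locally_eq_zero E
    (U := fun x : X => (U x).ι ''ᵁ ((U x).ι ⁻¹ᵁ W)) (fun x => ?_) (fun x hx => ?_) m fun x => ?_
  · exact (U x).ι.image_preimage_le W
  · exact TopologicalSpace.Opens.mem_iSup.2 ⟨x, ⟨x, hxU x⟩, hx, rfl⟩
  · have h0 : (𝟙 (E.restrict (U x).ι) : _ ⟶ _) = 0 := (IsZero.iff_id_eq_zero _).1 (hz x)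
    let V := (U x).ι ⁻¹ᵁ W
    exact congrArg (fun g : E.restrict (U x).ι ⟶ E.restrict (U x).ι =>
      g.app V (QCoh.res E ((U x).ι.image_preimage_le W) m)) h0

/-- A scheme smooth over a field is reduced. -/
theorem isReduced_of_smooth (k : Type u) [Field k] {X : Scheme.{u}}
    (f : X ⟶ Spec (CommRingCat.of k)) [Smooth f] : AlgebraicGeometry.IsReduced X := by
  have hU : ∀ x : X, _root_.IsReduced (X.presheaf.stalk x) := by
    intro x
    obtain ⟨_, ⟨(V : (Spec (CommRingCat.of k)).Opens), hV, rfl⟩, hxV, -⟩ :=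
      (Spec (CommRingCat.of k)).isBasis_affineOpens.exists_subset_of_mem_open
        (Set.mem_univ (f x)) isOpen_univ
    obtain ⟨_, ⟨(U : X.Opens), hU, rfl⟩, hxU, hUV⟩ :=
      X.isBasis_affineOpens.exists_subset_of_mem_open (show x ∈ f ⁻¹ᵁ V from hxV) (f ⁻¹ᵁ V).2
    let := (f.appLE V U hUV).hom.toAlgebra
    have : Algebra.Smooth Γ(Spec (CommRingCat.of k), V) Γ(X, U) := f.smooth_appLE hV hU hUV
    have hred := Groth.Agent.S9407.result Γ(Spec (CommRingCat.of k), V) Γ(X, U)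
    let := TopCat.Presheaf.algebra_section_stalk X.presheaf ⟨x, hxU⟩
    have := hU.isLocalization_stalk ⟨x, hxU⟩
    exact isReduced_localizationPreserves (R := Γ(X, U))
      (hU.primeIdealOf ⟨x, hxU⟩).asIdeal.primeCompl (X.presheaf.stalk x) hred
  exact isReduced_of_isReduced_stalk X

end Groth.Agent.DecCurve
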