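import Groth.Agent.DecCurve.Twisted
import Groth.Agent.VBLib.Basic

/-!
# The parabolic sectional condition at large twists
-/

set_option autoImplicit false
set_option linter.style.haveILetI false

universe u

open CategoryTheory CategoryTheory.Limits AlgebraicGeometry TopologicalSpace
open Groth.Agent.HilbPolyX Groth.Agent.ShStabLib

noncomputable section

namespace Groth.Agent.DecCurve

attribute [local irreducible] Curv2.euler DecSh.mult

variable {X : Scheme.{u}} (k : Type u) [Field k] [X.Over (Spec (CommRingCat.of k))]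
  [IsProper (X ↘ Spec (CommRingCat.of k))] {L : X.Modules}
  (hL : CohB1.IsAmple L) (hdim : topologicalKrullDim X ≤ 1)

include k hL hdim in
/-- The multiplicity of a bundle is its rank times the degree of `L`. -/
theorem mult_ofRank {E : X.Modules} {r : ℕ} (hE : FlatMod.IsFinLocFreeOfRank r E) :
    DecSh.mult k X L E = (r : ℤ) * Curv2.deg k X L 1 := by
  have h := EulerChar.deg_tens k (ProjTwist.isFinLocFreeOfRank_one hL.1) hdim hE
  have e : Curv2.euler k X (CohDev.tens L E) = Curv2.euler k X (CohB1.tensorMod E L) :=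
    EulerChar.euler_iso k (ProjTwist.tensComm L E)
  rw [DecSh.mult]
  simp only [Curv2.deg, one_mul, Nat.cast_one] at h ⊢
  rw [e] at h
  linear_combination h

variable [AlgebraicGeometry.IsReduced X] (hpure : ∀ x : X, ¬ IsOpen ({x} : Set X))

include k hL hdim hpure in
theorem slopeLE_of_parSemistable {E : X.Modules} (hE : Coh.IsCoh E) (htf : TorSh.IsTorsionFree E)
    {α e : ℤ} (hα : DecSh.mult k X L E = α) (he : Curv2.euler k X E = e)
    {ν : ℕ} (I : Fin ν → X.IdealSheafData) (K : ∀ i, Submodule k (ParSh.fibD X (I i) E)) {r : ℕ}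
    (hr : 0 < r) (hK : ∀ i, Module.finrank k (ParSh.fibD X (I i) E ⧸ K i) = r)
    (κ : Fin ν → ℚ) (hκ : ∀ i, 0 < κ i ∧ κ i < 1)
    {D : X.Modules} {a b : ℕ} (T : DecSh.TF E a b D) {δ : ℚ} (hδ : 0 < δ)
    (hT : T.IsParSemistable k I K κ L δ) :
    SlopeLE k L E ((e : ℚ) / α + δ * a + (r : ℚ) * (ν : ℚ)) := by
  intro F i hi hF hF0
  have h1 := mult_pos_of_torsionFree k hL hdim hpure htf i hF hF0
  have h2 := mult_le_of_mono k hL hdim i hF hE
  rw [hα] at h2
  have h1q : (1 : ℚ) ≤ DecSh.mult k X L F := by exact_mod_cast h1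
  have h2q : (DecSh.mult k X L F : ℚ) ≤ α := by exact_mod_cast h2
  have hα0 : (0 : ℚ) < α := by linarith
  have hδa : 0 ≤ δ * (a : ℚ) := by positivity
  have hrν : 0 ≤ (r : ℚ) * (ν : ℚ) := by positivity
  by_cases hiso : IsIso i
  · rw [EulerChar.euler_iso k (asIso i), mult_iso k (asIso i), he, hα, add_assoc, add_mul,
      div_mul_cancel₀ _ hα0.ne']
    exact le_add_of_nonneg_right (mul_nonneg (add_nonneg hδa hrν) hα0.le)
  · have h := parSemistable_bound k hL hdim hpure hE htf I K hr hK κ hκ T hδ hT i hF hF0 hiso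
    rw [hα, he] at h
    rw [add_assoc, add_mul, div_mul_eq_mul_div, ← sub_le_iff_le_add, le_div_iff₀ hα0]
    nlinarith [mul_nonneg hδa (sub_nonneg.2 h1q), mul_nonneg (mul_nonneg hδa hα0.le) (sub_nonneg.2 h1q),
      mul_nonneg (mul_nonneg hrν hα0.le) (sub_nonneg.2 h1q),
      mul_nonneg hδa (show (0 : ℚ) ≤ DecSh.mult k X L F by linarith)]

include k hL hdim hpure in
/-- The parabolic sectional sum is nonpositive at large twists. -/
theorem exists_parSectional {ν : ℕ} (δ : ℚ) (hδ : 0 < δ) (α e : ℤ) (a r : ℕ) (hr : 0 < r) :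
    ∃ m₀ : ℕ, ∀ m, m₀ ≤ m → ∀ (E : X.Modules), Coh.IsCoh E → TorSh.IsTorsionFree E →
      DecSh.mult k X L E = α → Curv2.euler k X E = e →
      ∀ (I : Fin ν → X.IdealSheafData) (K : ∀ i, Submodule k (ParSh.fibD X (I i) E)),
        (∀ i, Module.finrank k (ParSh.fibD X (I i) E ⧸ K i) = r) →
        ∀ (κ : Fin ν → ℚ), (∀ i, 0 < κ i ∧ κ i < 1) →
        ∀ (b : ℕ) (D : X.Modules) (T : DecSh.TF E a b D), T.IsParSemistable k I K κ L δ →
          ∀ 𝓕 : DecSh.WFilt E, (∀ i, Coh.IsCoh ((𝓕.piece i : Subobject E) : X.Modules)) →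
            (∑ i, 𝓕.wt i *
              ((α : ℚ) * ((h0 k (ShStab.twist X L ((𝓕.piece i : Subobject E) : X.Modules) m) : ℚ) -
                    ((Curv2.euler k X ((𝓕.piece i : Subobject E) : X.Modules) : ℚ) -
                      DecSh.parChi k I K κ (𝓕.piece i).arrow)) -
                (DecSh.mult k X L ((𝓕.piece i : Subobject E) : X.Modules) : ℚ) *
                  ((Curv2.euler k X (ShStab.twist X L E m) : ℚ) -
                    ((Curv2.euler k X E : ℚ) - DecSh.parChi k I K κ (𝟙 E))))) +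
              δ * T.mu k L 𝓕 ≤ 0 := by
  obtain ⟨m₀, hm₀⟩ := exists_term_dichotomy k hL hdim α e ((e : ℚ) / α + δ * a + (r : ℚ) * (ν : ℚ))
    (δ * a + (r : ℚ) * (ν : ℚ) + 1)
  refine ⟨m₀, fun m hm E hE htf hα he I K hK κ hκ b D T hT 𝓕 hcoh => ?_⟩
  have hb := piece_bounds k hL hdim hpure hE htf 𝓕 hcoh
  have hd := fun i => hm₀ m hm E hE (pure1_of_torsionFree k hL hdim hpure htf) hα he
    (slopeLE_of_parSemistable k hL hdim hpure hE htf hα he I K hr hK κ hκ T hδ hT) _
      (𝓕.piece i).arrow inferInstance (hcoh i)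
  have hαq : (1 : ℚ) ≤ α := by
    have := hb ⟨0, 𝓕.t_pos⟩
    rw [hα] at this
    exact_mod_cast this.1.trans this.2
  have hPE := parChi_bounds k I K hr hK κ hκ (𝟙 E)
  rw [he] at hPE ⊢
  refine (Dich.sum_le 𝓕 (DecSh.mult k X L E) (fun P => DecSh.mult k X L (P : X.Modules)) T.nv
    (DecSh.parChi k I K κ (𝟙 E)) (fun P => DecSh.parChi k I K κ P.arrow)
    (ok := fun P => Coh.IsCoh (P : X.Modules)) hcoh hb hδ.le hT _ fun i => ?_).1
  have hb2 := (hb i).2
  rw [hα] at hb2 ⊢
  have hPi := parChi_bounds k I K hr hK κ hκ (𝓕.piece i).arrow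
  have h2q : (DecSh.mult k X L ((𝓕.piece i : Subobject E) : X.Modules) : ℚ) ≤ α := by exact_mod_cast hb2
  have h1q : (1 : ℚ) ≤ DecSh.mult k X L ((𝓕.piece i : Subobject E) : X.Modules) := by
    exact_mod_cast (hb i).1
  rcases hd i with h | h
  · left
    have h' := h.2
    simp only [secTerm] at h'
    linear_combination h'
  · right
    simp only [secTerm] at h
    have hδa : 0 ≤ δ * (a : ℚ) := by positivity
    nlinarith [mul_le_mul_of_nonneg_left hPi.2 (show (0 : ℚ) ≤ α by linarith),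
      mul_le_mul_of_nonneg_left hPE.1 (show (0 : ℚ) ≤ DecSh.mult k X L ((𝓕.piece i : Subobject E) : X.Modules) by linarith),
      mul_le_mul_of_nonneg_right h2q (show (0 : ℚ) ≤ (r : ℚ) * (ν : ℚ) by positivity)]

end Groth.Agent.DecCurve

end
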