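import Groth.Agent.DecCurve.Sections

/-!
# Bounds on the number of sections, and cutting a module at a slope
-/

set_option autoImplicit false
set_option linter.style.haveILetI false

universe u

open CategoryTheory CategoryTheory.Limits AlgebraicGeometry TopologicalSpace
open Groth.Agent.HilbPolyX Groth.Agent.ShStabLib

noncomputable section

namespace Groth.Agent.DecCurve

attribute [local irreducible] Curv2.euler DecSh.mult

variable {X : Scheme.{u}} (k : Type u) [Field k] [X.Over (Spec (CommRingCat.of k))]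
  [IsProper (X ↘ Spec (CommRingCat.of k))] {L : X.Modules} (hL : CohB1.IsAmple L)
  (hdim : topologicalKrullDim X ≤ 1) {A : ℕ → X.Modules} (hA : BC.IsInvSys L A)

include k hL hdim in
/-- No sections below the slope threshold. -/
theorem h0_eq_zero {F : X.Modules} (hF : Coh.IsCoh F) (hp : Pure1 k L F) {M : ℚ} (hM : SlopeLE k L F M)
    (h : M < -(Module.finrank k (Coh.HH X (Coh.structureModule X) 1) : ℚ)) : h0 k F = 0 := by
  haveI := EulerChar.isNoetherian k (X := X)
  haveI := finite_sec k hF
  by_contra hne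
  haveI : Nontrivial (Coh.structureModule X ⟶ F) := Module.nontrivial_of_finrank_pos (R := k) (by
    rw [(BC.secEquiv k F).finrank_eq]; exact Nat.pos_of_ne_zero hne)
  obtain ⟨s, hs⟩ := exists_ne (0 : Coh.structureModule X ⟶ F)
  have hIc : Coh.IsCoh (Abelian.image s) :=
    CohDev.isCoh_image s (ProperFin.isCoh_structureModule X) hF.1
  have hI0 : ¬ IsZero (Abelian.image s) := fun h0 => hs (by
    rw [← Abelian.image.fac s, h0.eq_of_src (Abelian.image.ι s) 0, comp_zero])
  have h1 := euler_of_epi_structureModule k hdim (Abelian.factorThruImage s)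
  have h2 := hp _ (Abelian.image.ι s) inferInstance hIc hI0
  have h3 := hM _ (Abelian.image.ι s) inferInstance hIc hI0
  have h1q : -(Module.finrank k (Coh.HH X (Coh.structureModule X) 1) : ℚ) ≤
      Curv2.euler k X (Abelian.image s) := by exact_mod_cast h1
  have h2q : (1 : ℚ) ≤ DecSh.mult k X L (Abelian.image s) := by exact_mod_cast h2
  nlinarith [Nat.cast_nonneg (α := ℚ) (Module.finrank k (Coh.HH X (Coh.structureModule X) 1))]

include k hL hdim hA in
set_option maxHeartbeats 800000 in
/-- Sections grow at most linearly. -/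
theorem h0_growth {N : ℕ} (s : Coh.structureModule X ⟶ CohB1.tensorPow L N)
    (hs : ∀ y : X, ¬ IsClosed ({y} : Set X) → y ∈ CohB1.genLocus _ s)
    {F : X.Modules} (hF : Coh.IsCoh F) (hp : Pure1 k L F) :
    (h0 k F : ℤ) ≤ h0 k (CohB1.tensorMod F (A N)) + N * DecSh.mult k X L F := by
  have hc := isCoh_untwist k hA hF N
  have hc2 := isCoh_twist k hL.1 hc N
  have hm := mono_mulSec k hL hdim s hs hc (pure1_untwist k hL hdim hA hp N)
  let ψ : CohB1.tensorMod F (A N) ⟶ ShStab.twist X L (CohB1.tensorMod F (A N)) N :=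
    mulSec (CohB1.tensorMod F (A N)) s
  haveI : Mono ψ := hm
  have hC := isCoh_of_monoCokernel ψ hc hc2
  have e1 := mult_mono k hL hdim ψ hc hc2
  have e2 := euler_mono k ψ hc hc2
  rw [mult_twist k hL hdim hc N] at e1
  have hC0 : DecSh.mult k X L (cokernel ψ) = 0 := by omega
  rw [euler_twist k hL hdim hc N] at e2
  have e3 := h0_eq_euler k hdim (cokernel ψ)
    (EulerChar.subsingleton_HH_of_support k hC (dim_of_mult_eq_zero k hL hdim hC hC0) 0)
  have e4 := h0_add k (shortExact_of_mono ψ) hc2 hC
  have e5 : h0 k (ShStab.twist X L (CohB1.tensorMod F (A N)) N) = h0 k F := h0_iso k (untwist hA F N)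
  have e6 : DecSh.mult k X L (CohB1.tensorMod F (A N)) = DecSh.mult k X L F := by
    rw [← mult_twist k hL hdim hc N, mult_iso k (untwist hA F N)]
  change h0 k (ShStab.twist X L (CohB1.tensorMod F (A N)) N) ≤
    h0 k (CohB1.tensorMod F (A N)) + h0 k (cokernel ψ) at e4
  rw [e6] at e2
  omega

include k hL hdim hA in
theorem h0_le_steps {N : ℕ} (s : Coh.structureModule X ⟶ CohB1.tensorPow L N)
    (hs : ∀ y : X, ¬ IsClosed ({y} : Set X) → y ∈ CohB1.genLocus _ s) :
    ∀ (q : ℕ) {F : X.Modules} {M : ℚ}, Coh.IsCoh F → Pure1 k L F → SlopeLE k L F M →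
      M < -(Module.finrank k (Coh.HH X (Coh.structureModule X) 1) : ℚ) + q * N →
      (h0 k F : ℤ) ≤ q * N * DecSh.mult k X L F := by
  intro q
  induction q with
  | zero =>
    intro F M hF hp hM h
    rw [h0_eq_zero k hL hdim hF hp hM (by simpa using h)]
    simp
  | succ q ih =>
    intro F M hF hp hM h
    have hc := isCoh_untwist k hA hF N
    have h1 := ih hc (pure1_untwist k hL hdim hA hp N) (slopeLE_untwist k hL hdim hA hM N)
      (by push_cast at h; linarith)
    have h2 := h0_growth k hL hdim hA s hs hF hp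
    have e6 : DecSh.mult k X L (CohB1.tensorMod F (A N)) = DecSh.mult k X L F := by
      rw [← mult_twist k hL hdim hc N, mult_iso k (untwist hA F N)]
    rw [e6] at h1
    push_cast
    linarith

include k hL hdim in
/-- The number of sections of twists of pure modules of bounded slope. -/
theorem exists_h0_bound :
    ∃ c : ℚ, 0 ≤ c ∧ ∀ (F : X.Modules), Coh.IsCoh F → Pure1 k L F → ∀ M : ℚ, SlopeLE k L F M →
      ∀ m : ℕ, (h0 k (ShStab.twist X L F m) : ℚ) ≤ max 0 (M + m + c) * DecSh.mult k X L F := by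
  haveI := EulerChar.isNoetherian k (X := X)
  obtain ⟨N, s, hN, hs⟩ := exists_section k hL hdim
  obtain ⟨A, hA⟩ := BC.exists_invSys hL.1
  let g : ℚ := (Module.finrank k (Coh.HH X (Coh.structureModule X) 1) : ℚ)
  refine ⟨g + N, by positivity, fun F hF hp M hM m => ?_⟩
  have hc := isCoh_twist k hL.1 hF m
  have key := fun (q : ℕ) => h0_le_steps k hL hdim hA s hs q hc (pure1_twist k hL hdim hA hp m)
    (slopeLE_twist k hL hdim hA hM m)
  simp only [mult_twist k hL hdim hF m] at key
  have hα : (0 : ℚ) ≤ DecSh.mult k X L F := by exact_mod_cast mult_nonneg k hL hdim hF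
  rcases lt_or_ge (M + m) (-g) with hlt | hge
  · have := key 0 (by simpa [g] using hlt)
    have h' : (h0 k (ShStab.twist X L F m) : ℚ) ≤ 0 := by
      exact_mod_cast (by simpa using this : (h0 k (ShStab.twist X L F m) : ℤ) ≤ 0)
    exact h'.trans (mul_nonneg (le_max_left _ _) hα)
  · have hNq : (0 : ℚ) < N := by exact_mod_cast hN
    let q : ℕ := ⌊(M + m + g) / N⌋₊ + 1
    have h1 : M + m + g < (q : ℚ) * N := by
      rw [← div_lt_iff₀ hNq]
      simp only [q]
      push_cast
      exact Nat.lt_floor_add_one _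
    have h2 : (q : ℚ) * N ≤ M + m + (g + N) := by
      have := Nat.floor_le (div_nonneg (by linarith : (0 : ℚ) ≤ M + m + g) hNq.le)
      rw [le_div_iff₀ hNq] at this
      simp only [q]
      push_cast
      linarith
    have h3 := key q (by simp only [g] at h1 ⊢; linarith)
    have h4 : (h0 k (ShStab.twist X L F m) : ℚ) ≤ (q : ℚ) * N * DecSh.mult k X L F := by exact_mod_cast h3
    exact h4.trans (mul_le_mul_of_nonneg_right (h2.trans (le_max_right _ _)) hα)

include k hL hdim in
/-- A submodule whose quotients have slope at least `M`, with a pure quotient of slope at most `M`. -/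
theorem exists_cut {F : X.Modules} (hF : Coh.IsCoh F) (B : ℤ)
    (hB : ∀ (K : X.Modules) (i : K ⟶ F), Mono i → Coh.IsCoh K → Curv2.euler k X K ≤ B) (M : ℚ) :
    ∃ (G : X.Modules) (j : G ⟶ F), Mono j ∧ Coh.IsCoh G ∧
      Pure1 k L (cokernel j) ∧ SlopeLE k L (cokernel j) M ∧
      ∀ (Q : X.Modules) (g : G ⟶ Q), Epi g → Coh.IsCoh Q →
        M * DecSh.mult k X L Q ≤ Curv2.euler k X Q := by
  let P : ℤ → Prop := fun z => ∃ (K : X.Modules) (i : K ⟶ F), Mono i ∧ Coh.IsCoh K ∧
    z = (M.den : ℤ) * Curv2.euler k X K - M.num * DecSh.mult k X L K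
  obtain ⟨z, ⟨G, j, hj, hG, rfl⟩, hmax⟩ := Int.exists_greatest_of_bdd (P := P)
    ⟨(M.den : ℤ) * B + |M.num| * DecSh.mult k X L F, by
      rintro z ⟨K, i, hi, hK, rfl⟩
      have h1 := mul_le_mul_of_nonneg_left (hB K i hi hK) (Nat.cast_nonneg (α := ℤ) M.den)
      have h2 := mult_mono k hL hdim i hK hF
      have h3 := mult_nonneg k hL hdim (isCoh_of_monoCokernel i hK hF)
      have h4 := mult_nonneg k hL hdim hK
      nlinarith [neg_abs_le M.num, abs_nonneg M.num]⟩
    ⟨_, F, 𝟙 F, inferInstance, hF, rfl⟩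
  haveI := hj
  have hden : (0 : ℚ) < M.den := by exact_mod_cast M.den_pos
  have hM : ∀ x : ℚ, M * x = (M.num : ℚ) * x / M.den := fun x => by
    rw [mul_div_right_comm, Rat.num_div_den]
  have hsub : ∀ (K : X.Modules) (i : K ⟶ cokernel j), Mono i → Coh.IsCoh K →
      (Curv2.euler k X K : ℚ) ≤ M * DecSh.mult k X L K := by
    intro K i hi hK
    have hC := isCoh_of_monoCokernel j hG hF
    have hC' := isCoh_of_monoCokernel i hK hC
    let p : F ⟶ cokernel i := cokernel.π j ≫ cokernel.π i
    haveI : Epi p := epi_comp _ _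
    have hK' := isCoh_of_kernel k p hF hC'
    have h1 := hmax _ ⟨kernel p, kernel.ι p, inferInstance, hK', rfl⟩
    have a1 := mult_epi k hL hdim p hF hC'
    have a2 := mult_mono k hL hdim j hG hF
    have a3 := mult_mono k hL hdim i hK hC
    have b1 := euler_epi k p hF hC'
    have b2 := euler_mono k j hG hF
    have b3 := euler_mono k i hK hC
    have key : (M.den : ℤ) * Curv2.euler k X K ≤ M.num * DecSh.mult k X L K := by
      have e1 : Curv2.euler k X (kernel p) = Curv2.euler k X G + Curv2.euler k X K := by omega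
      have e2 : DecSh.mult k X L (kernel p) = DecSh.mult k X L G + DecSh.mult k X L K := by omega
      rw [e1, e2] at h1
      linarith
    have keyq : (M.den : ℚ) * Curv2.euler k X K ≤ M.num * DecSh.mult k X L K := by exact_mod_cast key
    rw [hM, le_div_iff₀ hden]
    linarith
  refine ⟨G, j, hj, hG, fun K i hi hK hK0 => ?_, fun K i hi hK _ => hsub K i hi hK,
    fun Q g hg hQ => ?_⟩
  · rcases mult_pos_or_dim k hL hdim hK with h | ⟨h, -⟩
    · exact h
    · have h1 := hsub K i hi hK
      have h2 := euler_pos k hL hdim hK h hK0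
      rw [h] at h1
      simp only [Int.cast_zero, mul_zero] at h1
      exact absurd (by exact_mod_cast h1 : Curv2.euler k X K ≤ 0) (by omega)
  · have hK := isCoh_of_kernel k g hG hQ
    have h1 := hmax _ ⟨kernel g, kernel.ι g ≫ j, mono_comp _ _, hK, rfl⟩
    have a1 := mult_epi k hL hdim g hG hQ
    have b1 := euler_epi k g hG hQ
    have key : M.num * DecSh.mult k X L Q ≤ (M.den : ℤ) * Curv2.euler k X Q := by
      rw [a1, b1] at h1
      linarith
    have keyq : (M.num : ℚ) * DecSh.mult k X L Q ≤ M.den * Curv2.euler k X Q := by exact_mod_cast key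
    rw [hM, div_le_iff₀ hden]
    linarith

end Groth.Agent.DecCurve

end
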