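import Groth.Agent.DecCurve.Decor
import Groth.Agent.CohDev.Key
import Groth.Agent.CurveDVR.Stalk
import Groth.Agent.Props.NormalCM
import Groth.Agent.RegLoc.Basic
import Groth.Agent.Props.QProj
import Groth.Agent.VBLib.Basic

/-!
# Smooth schemes of dimension at most one
-/

set_option autoImplicit false
set_option linter.style.haveILetI false

universe u

open CategoryTheory CategoryTheory.Limits AlgebraicGeometry TopologicalSpace
open Groth.Agent.HilbPolyX Groth.Agent.PullStalk.Sky Groth.Agent.PullStalk.Exact
open Groth.Agent.Props.SubMod Groth.Agent.Props.SubSheaf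

noncomputable section

namespace Groth.Agent.DecCurve

attribute [local irreducible] Curv2.euler DecSh.mult

variable {X : Scheme.{u}}

/-- An associated point carries a submodule supported in its closure. -/
theorem exists_sub_of_assoc [IsNoetherian X] {N : X.Modules} (hN : Coh.IsCoh N) {y : X}
    (hy : CohDev.Assoc N y) :
    ∃ (J : X.Modules) (f : J ⟶ N), Mono f ∧ Coh.IsCoh J ∧ ¬ IsZero J ∧
      CohB1.support J ⊆ closure {y} := by
  haveI : N.IsQuasicoherent := hN.1
  let I := IntMult.ptIdeal y
  have hA : Coh.IsCoh (CohDev.killSub I N) := CohDev.isCoh_killSub hN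
  obtain ⟨V, hV, hx, -⟩ := exists_isAffineOpen_mem_and_subset (X := X) (Opens.mem_top y)
  obtain ⟨t, ht, htm⟩ := hy
  have htk : t ∈ CohDev.killFam I N y := by
    intro W hxW a ha
    refine htm _ fun hu ↦ ?_
    rw [CohDev.ideal_ptIdeal y hxW] at ha
    exact (CycLib.not_mem_primeIdealOf_iff W.2 hxW a).mpr hu ha
  obtain ⟨m, hm, hmne⟩ : ∃ m ∈ CohDev.killSec I N ⟨V, hV⟩, germM N V y hx m ≠ 0 := by
    by_contra hcon
    push Not at hcon
    refine ht ?_
    rw [CohDev.genBy_killSec ⟨V, hV⟩ y hx] at htk
    refine (Submodule.mem_bot (X.presheaf.stalk y)).mp ((Submodule.span_le.mpr ?_) htk)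
    rintro _ ⟨m, hm, rfl⟩
    exact hcon m hm
  obtain ⟨mA, hmA⟩ := (mem_range_incl (CohDev.killFam I N) m).mpr fun z hz ↦
    CohDev.germ_mem_killFam (V := ⟨V, hV⟩) hm hz
  refine ⟨CohDev.killSub I N, incl _, inferInstance, hA, fun hz => hmne ?_,
    (CohDev.support_subset_of_killed (CohDev.killed_killSub hN)).trans (CohDev.coe_support_ptIdeal y).le⟩
  rw [← hmA, show incl (CohDev.killFam I N) = 0 from hz.eq_of_src _ _]
  exact map_zero (N.presheaf.germ V y hx).hom

variable (k : Type u) [Field k] [X.Over (Spec (CommRingCat.of k))]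
  [Smooth (X ↘ Spec (CommRingCat.of k))]

include k in
theorem isDomain_stalk (x : X) : IsDomain (X.presheaf.stalk x) :=
  haveI := CurveDVR.isRegularLocalRing_stalk (X ↘ Spec (CommRingCat.of k)) x
  RegLoc.isDomain _

include k in
/-- The local rings are principal ideal domains. -/
theorem isPrincipal_stalk (hdim : topologicalKrullDim X ≤ 1) (x : X) :
    IsPrincipalIdealRing (X.presheaf.stalk x) := by
  haveI := CurveDVR.isRegularLocalRing_stalk (X ↘ Spec (CommRingCat.of k)) x
  haveI := isDomain_stalk k x
  let R := X.presheaf.stalk x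
  by_cases hf : IsField R
  · letI := hf.toField
    infer_instance
  · have h1 : ringKrullDim R ≤ 1 := (Props.NormalCM.ringKrullDim_stalk_le X x).trans hdim
    have h2 : (IsLocalRing.maximalIdeal R).spanFinrank ≤ 1 := by
      have := (isRegularLocalRing_iff R).mp ‹_›
      rw [← this] at h1
      exact_mod_cast h1
    have h3 : (IsLocalRing.maximalIdeal R).IsPrincipal := by
      rcases Nat.le_one_iff_eq_zero_or_eq_one.1 h2 with h | h
      · refine absurd ?_ (IsLocalRing.isField_iff_maximalIdeal_eq.not.1 hf)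
        exact (Submodule.spanFinrank_eq_zero_iff_eq_bot (IsNoetherian.noetherian _)).1 h
      · exact ((Submodule.spanFinrank_eq_one_iff (IsLocalRing.maximalIdeal R)).mp h).1
    exact ((tfae_of_isNoetherianRing_of_isLocalRing_of_isDomain (R := R)).out 0 4).mpr h3

variable [IsProper (X ↘ Spec (CommRingCat.of k))] {L : X.Modules} (hL : CohB1.IsAmple L)

include k hL in
/-- Coherent modules without submodules of multiplicity zero are bundles. -/
theorem isFinLocFree_of_pure1 (hdim : topologicalKrullDim X ≤ 1) {Q : X.Modules} (hQ : Coh.IsCoh Q)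
    (hp : Pure1 k L Q) : FlatMod.IsFinLocFree Q := by
  haveI := EulerChar.isNoetherian k (X := X)
  haveI := hQ.1
  haveI := hQ.2
  refine Props.QProj.isFinLocFree_of Q (fun x => ?_) fun x => ?_
  · obtain ⟨_, ⟨U, hU, rfl⟩, hx, -⟩ :=
      X.isBasis_affineOpens.exists_subset_of_mem_open (Set.mem_univ x) isOpen_univ
    haveI : IsNoetherianRing Γ(X, U) := IsLocallyNoetherian.component_noetherian ⟨U, hU⟩
    haveI := QCoh.finite_sections_of_isFiniteType Q (show IsAffineOpen U from hU)
    exact ⟨U, hU, hx, Module.finitePresentation_of_finite _ _⟩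
  haveI := isDomain_stalk k x
  haveI := isPrincipal_stalk k hdim x
  haveI : Module.Finite (X.presheaf.stalk x) (Q.presheaf.stalk x) := HomShQC.finite_stalk Q hQ.2 x
  let R := X.presheaf.stalk x
  obtain ⟨p, hp'⟩ := (IsPrincipalIdealRing.principal (IsLocalRing.maximalIdeal R)).principal
  rcases eq_or_ne p 0 with rfl | hp0
  · have hf : IsField R := IsLocalRing.isField_iff_maximalIdeal_eq.2 (hp'.trans (Ideal.span_singleton_eq_bot.2 rfl))
    letI := hf.toField
    haveI : Module.IsTorsionFree R (Q.presheaf.stalk x) := inferInstance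
    exact Module.free_of_finite_type_torsion_free'
  have hirr : Irreducible p := by
    have : Prime p := by
      rw [← Ideal.span_singleton_prime hp0]
      have h := (IsLocalRing.maximalIdeal.isMaximal R).isPrime
      rwa [hp'] at h
    exact this.irreducible
  have hnf : ¬ IsField R := fun hf => hp0 (by
    have h := IsLocalRing.isField_iff_maximalIdeal_eq.1 hf
    rw [hp'] at h
    exact Ideal.span_singleton_eq_bot.1 h)
  have hpt : ∀ t : Q.presheaf.stalk x, p • t = 0 → t = 0 := by
    intro t ht
    by_contra hne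
    have hass : CohDev.Assoc Q x := ⟨t, hne, fun r hr => by
      obtain ⟨c, rfl⟩ := Ideal.mem_span_singleton'.1 (hp'.le hr)
      rw [mul_smul, ht, smul_zero]⟩
    obtain ⟨J, f, hf, hJ, hJ0, hsupp⟩ := exists_sub_of_assoc hQ hass
    have hcl : IsClosed ({x} : Set X) := by
      by_contra hc
      obtain ⟨z, hz, hzx⟩ : ∃ z ∈ closure ({x} : Set X), z ≠ x := by
        by_contra hno
        push Not at hno
        have e : closure ({x} : Set X) = {x} := subset_antisymm hno subset_closure
        exact hc (e ▸ isClosed_closure)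
      have hd : Order.krullDim X ≤ 1 :=
        le_of_eq_of_le (@Order.krullDim_eq_of_orderIso _ _ _ _ (irreducibleSetEquivPoints (α := X))).symm hdim
      have hlt : z < x := lt_of_le_not_ge (specializes_iff_mem_closure.2 hz)
        fun h => hzx ((specializes_iff_mem_closure.2 hz).antisymm h).eq.symm
      have hmax : IsMax x := (Order.krullDim_le_one_iff.1 hd x).resolve_left fun h => hlt.not_ge (h hlt.le)
      have h0 : ringKrullDim R = 0 := by
        rw [ringKrullDim_stalk_eq_coheight, Order.coheight_eq_zero.2 hmax]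
        rfl
      haveI : Ring.KrullDimLE 0 R := Ring.krullDimLE_iff.2 h0.le
      exact hnf Ring.KrullDimLE.isField_of_isDomain
    have hpos := hp J f hf hJ hJ0
    have := mult_eq_zero_of_dim k hL hdim hJ (dim_le_zero_of_closed_points (CohDev.isClosed_support hJ)
      fun z hz => by
        have : z = x := by simpa [hcl.closure_eq] using hsupp hz
        exact this ▸ hcl)
    omega
  haveI : Module.IsTorsionFree R (Q.presheaf.stalk x) := by
    refine ⟨fun r hr => ?_⟩
    have hr0 : r ≠ 0 := hr.ne_zero
    refine isSMulRegular_iff_right_eq_zero_of_smul.2 ?_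
    intro t ht
    haveI : IsDiscreteValuationRing R :=
      ⟨fun h => hp0 (Ideal.span_singleton_eq_bot.1 (hp'.symm.trans h))⟩
    obtain ⟨n, u, rfl⟩ := IsDiscreteValuationRing.eq_unit_mul_pow_irreducible hr0 hirr
    rw [mul_smul] at ht
    replace ht := u.isUnit.smul_eq_zero.1 ht
    clear hr hr0
    induction n with
    | zero => simpa using ht
    | succ n ih => exact ih (hpt _ (by rwa [← mul_smul, ← pow_succ']))
  exact Module.free_of_finite_type_torsion_free'

end Groth.Agent.DecCurve

end

namespace Groth.Agent.DecCurve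

attribute [local irreducible] Curv2.euler DecSh.mult

/-- A bound on bundle quotients of positive multiplicity bounds all quotients. -/
theorem quotBound_of_bundle {X : Scheme.{u}} (k : Type u) [Field k] [X.Over (Spec (CommRingCat.of k))]
    [Smooth (X ↘ Spec (CommRingCat.of k))] [IsProper (X ↘ Spec (CommRingCat.of k))] {L : X.Modules}
    (hL : CohB1.IsAmple L) (hdim : topologicalKrullDim X ≤ 1) {E : X.Modules} {D : ℤ} (hD : D ≤ 0)
    (h : ∀ (Q : X.Modules) (p : E ⟶ Q), Epi p → FlatMod.IsFinLocFree Q → Coh.IsCoh Q →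
      0 < DecSh.mult k X L Q → D ≤ Curv2.euler k X Q) : QuotBound k D E := by
  intro Q g hg hQ
  haveI := EulerChar.isNoetherian k (X := X)
  let P : ℤ → Prop := fun z => ∃ (J : X.Modules) (i : J ⟶ Q), Mono i ∧ Coh.IsCoh J ∧
    DecSh.mult k X L J = 0 ∧ z = Curv2.euler k X J
  obtain ⟨z, ⟨T, j, hj, hT, hT0, rfl⟩, hmax⟩ := Int.exists_greatest_of_bdd (P := P)
    ⟨(h0 k Q : ℤ), by
      rintro z ⟨J, i, hi, -, -, rfl⟩
      haveI := hi
      exact (euler_le_h0 k hdim J).trans (Int.ofNat_le.2 (h0_mono k i hQ))⟩
    ⟨_, kernel (𝟙 Q), kernel.ι (𝟙 Q), inferInstance, isCoh_of_kernel k (𝟙 Q) hQ hQ,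
      mult_eq_zero_of_isZero k hL (HilbPolyX.isZero_kernel_of_isIso (𝟙 Q)), rfl⟩
  haveI := hj
  have hC := isCoh_of_monoCokernel j hT hQ
  have hp : Pure1 k L (cokernel j) := by
    intro K i hi hK hK0
    by_contra hneg
    haveI := hi
    have hKm : DecSh.mult k X L K = 0 :=
      le_antisymm (not_lt.1 hneg) (mult_nonneg k hL hdim hK)
    have hC' := isCoh_of_monoCokernel i hK hC
    let p : Q ⟶ cokernel i := cokernel.π j ≫ cokernel.π i
    haveI : Epi p := epi_comp _ _
    have hK' := isCoh_of_kernel k p hQ hC'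
    have a1 := mult_epi k hL hdim p hQ hC'
    have a2 := mult_mono k hL hdim j hT hQ
    have a3 := mult_mono k hL hdim i hK hC
    have b1 := euler_epi k p hQ hC'
    have b2 := euler_mono k j hT hQ
    have b3 := euler_mono k i hK hC
    have h1 := hmax _ ⟨kernel p, kernel.ι p, inferInstance, hK', by omega, rfl⟩
    have h2 := euler_pos k hL hdim hK hKm hK0
    omega
  have b2 := euler_mono k j hT hQ
  have h2 := euler_nonneg k hL hdim hT hT0
  rcases mult_pos_or_dim k hL hdim hC with h' | ⟨h', -⟩
  · haveI := hg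
    have := h _ (g ≫ cokernel.π j) (epi_comp _ _) (isFinLocFree_of_pure1 k hL hdim hC hp) hC h'
    omega
  · have hz : IsZero (cokernel j) := by
      by_contra hne
      have := hp _ (𝟙 _) inferInstance hC hne
      omega
    rw [EulerChar.euler_of_isZero k hz] at b2
    omega

end Groth.Agent.DecCurve
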