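import Groth.Agent.HomShEval.QCoh

/-!
# Spreading an isomorphism of stalks to a neighbourhood
-/

set_option autoImplicit false
set_option linter.style.haveILetI false

universe u

open CategoryTheory Limits AlgebraicGeometry TopologicalSpace Opposite
open Groth.Agent.PullStalk.Sky

noncomputable section

namespace Groth.Agent.DecCurve.Spread

open HomShEval.QCoh

variable {X : Scheme.{u}} {F G H : X.Modules}

lemma app_add {U V : X.Opens} (g : Γ(RefHull.homSh F G, U)) (h : V ≤ U) (a b : Γ(F, V)) :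
    app F G g h (a + b) = app F G g h a + app F G g h b :=
  ext_germ G _ _ fun y hy => by rw [germ_app, germM_add, map_add, germM_add, germ_app, germ_app]

lemma app_smul {U V : X.Opens} (g : Γ(RefHull.homSh F G, U)) (h : V ≤ U) (r : Γ(X, V)) (a : Γ(F, V)) :
    app F G g h (r • a) = r • app F G g h a :=
  ext_germ G _ _ fun y hy => by rw [germ_app, germM_smul, map_smul, germM_smul, germ_app]

lemma app_app {U V : X.Opens} (g : Γ(RefHull.homSh F G, U)) (g' : Γ(RefHull.homSh G F, U))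
    (h : ∀ y : U, (g'.1 y).comp (g.1 y) = LinearMap.id) (hV : V ≤ U) (m : Γ(F, V)) :
    app G F g' hV (app F G g hV m) = m :=
  ext_germ F _ _ fun y hy => by
    rw [germ_app, germ_app]
    exact congr($(h ⟨y, hV hy⟩) (germM F V y hy m))

/-- The morphism over an open defined by a section of the sheaf Hom. -/
def toHom {U : X.Opens} (g : Γ(RefHull.homSh F G, U)) : F.restrict U.ι ⟶ G.restrict U.ι :=
  ⟨PresheafOfModules.homMk
    { app := fun W => AddCommGrpCat.ofHom (AddMonoidHom.mk'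
        (fun (m : Γ(F, U.ι ''ᵁ W.unop)) =>
          (app F G g (U.ι_image_le W.unop) m : Γ(G, U.ι ''ᵁ W.unop)))
        fun a b => app_add g (U.ι_image_le W.unop) a b)
      naturality := fun {V W} e => by
        ext m
        refine ext_germ G _ _ fun y hy => ?_
        let j : U.ι ''ᵁ W.unop ⟶ U.ι ''ᵁ V.unop := homOfLE (U.ι.image_mono e.unop.le)
        refine (germ_app F G g (U.ι_image_le W.unop) (F.presheaf.map j.op m) y hy).trans ?_
        refine Eq.trans ?_ (G.presheaf.germ_res_apply j y hy _).symm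
        refine Eq.trans ?_ (germ_app F G g (U.ι_image_le V.unop) m y (j.le hy)).symm
        exact congrArg _ (F.presheaf.germ_res_apply j y hy m) }
    (fun W r m => by
      exact app_smul g (U.ι_image_le W.unop) ((U.ι.appIso W.unop).inv r) m)⟩

lemma toHom_app {U : X.Opens} (g : Γ(RefHull.homSh F G, U)) (W : (U : Scheme.{u}).Opens) (m : Γ(F, U.ι ''ᵁ W)) :
    ((toHom g).app W m : Γ(G, U.ι ''ᵁ W)) = app F G g (U.ι_image_le W) m :=
  rfl

lemma toHom_comp_eq_id {U : X.Opens} (g : Γ(RefHull.homSh F G, U)) (g' : Γ(RefHull.homSh G F, U))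
    (h : ∀ y : U, (g'.1 y).comp (g.1 y) = LinearMap.id) : toHom g ≫ toHom g' = 𝟙 _ := by
  ext W m
  exact app_app g g' h (U.ι_image_le W) m

/-- Two sections of the sheaf Hom compose. -/
def compSec {U : X.Opens} (g : Γ(RefHull.homSh F G, U)) (g' : Γ(RefHull.homSh G H, U)) :
    Γ(RefHull.homSh F H, U) :=
  ⟨fun y => (g'.1 y).comp (g.1 y), fun V i m x => ⟨V, x.2, 𝟙 V, app G H g' i.le (app F G g i.le m), fun y => by
    refine Eq.trans ?_ (germ_app G H g' i.le _ y.1 y.2).symm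
    exact congrArg (g'.1 ⟨y.1, i.le y.2⟩) (germ_app F G g i.le m y.1 y.2).symm⟩⟩

lemma exists_id_near (hF : CohB1.IsFT F) {U : X.Opens} {x : X} (hx : x ∈ U) (h : Γ(RefHull.homSh F F, U))
    (h1 : h.1 ⟨x, hx⟩ = LinearMap.id) :
    ∃ (W : X.Opens) (e : W ≤ U), x ∈ W ∧ ∀ y : W, h.1 ⟨y.1, e y.2⟩ = LinearMap.id := by
  let one := RefHull.ofHom (𝟙 F) U
  have hone : ∀ y : U, one.1 y = LinearMap.id := fun y => by
    refine LinearMap.ext fun v => ?_
    obtain ⟨V, hV, m, rfl⟩ := TopCat.Presheaf.exists_germ_eq F.presheaf v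
    exact RefHull.stalkMapₗ_germ (𝟙 F) y.1 hV m
  have hgerm : (RefHull.homSh F F).presheaf.germ U x hx h = (RefHull.homSh F F).presheaf.germ U x hx one := by
    refine HomShEval.evalStalk_injective F F hF x ?_
    rw [RefHull.evalStalk_germ, RefHull.evalStalk_germ, h1, hone]
  obtain ⟨W, hxW, i, i', hW⟩ := (RefHull.homSh F F).presheaf.germ_eq x hx hx h one hgerm
  exact ⟨W, i.le, hxW, fun y =>
    (congrFun (congrArg Subtype.val hW) y).trans (hone ⟨y.1, i'.le y.2⟩)⟩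

/-- An isomorphism of stalks of finitely presented modules comes from an isomorphism near the point. -/
theorem exists_restrict_iso (hF : CohB1.IsFP F) (hG : CohB1.IsFP G) (hF' : CohB1.IsFT F) (hG' : CohB1.IsFT G)
    (x : X) (e : F.presheaf.stalk x ≃ₗ[X.presheaf.stalk x] G.presheaf.stalk x) :
    ∃ U : X.Opens, x ∈ U ∧ ∀ V ≤ U, Nonempty (F.restrict V.ι ≅ G.restrict V.ι) := by
  obtain ⟨θ, hθ⟩ := HomShEval.evalStalk_surjective F G hF x e.toLinearMap
  obtain ⟨U₁, h₁, g, rfl⟩ := TopCat.Presheaf.exists_germ_eq (RefHull.homSh F G).presheaf θ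
  obtain ⟨θ', hθ'⟩ := HomShEval.evalStalk_surjective G F hG x e.symm.toLinearMap
  obtain ⟨U₂, h₂, g', rfl⟩ := TopCat.Presheaf.exists_germ_eq (RefHull.homSh G F).presheaf θ'
  rw [RefHull.evalStalk_germ] at hθ hθ'
  let g₁ : Γ(RefHull.homSh F G, U₁ ⊓ U₂) := (RefHull.homSh F G).presheaf.map (homOfLE inf_le_left).op g
  let g₂ : Γ(RefHull.homSh G F, U₁ ⊓ U₂) := (RefHull.homSh G F).presheaf.map (homOfLE inf_le_right).op g'
  have e₁ : g₁.1 ⟨x, h₁, h₂⟩ = e.toLinearMap := hθ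
  have e₂ : g₂.1 ⟨x, h₁, h₂⟩ = e.symm.toLinearMap := hθ'
  obtain ⟨W, hW, hxW, hWid⟩ := exists_id_near hF' (show x ∈ U₁ ⊓ U₂ from ⟨h₁, h₂⟩) (compSec g₁ g₂) (by
    change (g₂.1 ⟨x, h₁, h₂⟩).comp (g₁.1 ⟨x, h₁, h₂⟩) = _
    rw [e₁, e₂]
    exact LinearMap.ext fun v => e.symm_apply_apply v)
  obtain ⟨W', hW', hxW', hW'id⟩ := exists_id_near hG' (show x ∈ U₁ ⊓ U₂ from ⟨h₁, h₂⟩) (compSec g₂ g₁) (by
    change (g₁.1 ⟨x, h₁, h₂⟩).comp (g₂.1 ⟨x, h₁, h₂⟩) = _
    rw [e₁, e₂]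
    exact LinearMap.ext fun v => e.apply_symm_apply v)
  refine ⟨W ⊓ W', ⟨hxW, hxW'⟩, fun V hV => ?_⟩
  have hVU : V ≤ U₁ ⊓ U₂ := hV.trans (inf_le_left.trans hW)
  refine ⟨?_⟩
  let a : Γ(RefHull.homSh F G, V) := (RefHull.homSh F G).presheaf.map (homOfLE hVU).op g₁
  let b : Γ(RefHull.homSh G F, V) := (RefHull.homSh G F).presheaf.map (homOfLE hVU).op g₂
  exact Iso.mk (toHom a) (toHom b) (toHom_comp_eq_id a b fun (y : V) => hWid (⟨y.1, (hV y.2).1⟩ : W))
    (toHom_comp_eq_id b a fun (y : V) => hW'id (⟨y.1, (hV y.2).2⟩ : W'))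

end Groth.Agent.DecCurve.Spread
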