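import Groth.Agent.DecCurve.Family
import Groth.Agent.DecCurve.Dich
import Groth.Agent.DecCurve.Par
import Groth.Agent.EulerChar.Deg

/-!
# Sectional semistability at large twists
-/

set_option autoImplicit false
set_option linter.style.haveILetI false

universe u

open CategoryTheory CategoryTheory.Limits AlgebraicGeometry TopologicalSpace
open Groth.Agent.HilbPolyX Groth.Agent.ShStabLib

noncomputable section

namespace Groth.Agent.DecCurve

attribute [local irreducible] Curv2.euler DecSh.mult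

variable {X : Scheme.{u}} (k : Type u) [Field k] [X.Over (Spec (CommRingCat.of k))]
  [IsProper (X ↘ Spec (CommRingCat.of k))] {L : X.Modules}
  (hL : CohB1.IsAmple L) (hdim : topologicalKrullDim X ≤ 1) (hpure : ∀ x : X, ¬ IsOpen ({x} : Set X))

/-- The term of the sectional condition of a submodule. -/
def secTerm (L : X.Modules) (α : ℤ) (E K : X.Modules) (m : ℕ) : ℚ :=
  (α : ℚ) * (h0 k (ShStab.twist X L K m) : ℚ) -
    (DecSh.mult k X L K : ℚ) * (Curv2.euler k X (ShStab.twist X L E m) : ℚ)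

include k hL hdim in
/-- Either a step is exact, or it is very deficient. -/
theorem exists_term_dichotomy (α e : ℤ) (M₀ R : ℚ) :
    ∃ m₀ : ℕ, ∀ m, m₀ ≤ m → ∀ (E : X.Modules), Coh.IsCoh E → Pure1 k L E →
      DecSh.mult k X L E = α → Curv2.euler k X E = e → SlopeLE k L E M₀ →
      ∀ (K : X.Modules) (i : K ⟶ E), Mono i → Coh.IsCoh K →
        (((h0 k (ShStab.twist X L K m) : ℤ) = Curv2.euler k X (ShStab.twist X L K m)) ∧
            secTerm k L α E K m = (α : ℚ) * (Curv2.euler k X K : ℚ) -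
              (DecSh.mult k X L K : ℚ) * (e : ℚ)) ∨
          secTerm k L α E K m ≤ -((α : ℚ) * R) := by
  obtain ⟨m₀, hm₀⟩ := exists_dichotomy k hL hdim α.natAbs M₀ (R + |(e : ℚ)|)
  refine ⟨m₀, fun m hm E hE hp hα he hS K i hi hK => ?_⟩
  haveI := hi
  have hα0 : 0 ≤ α := hα ▸ mult_nonneg k hL hdim hE
  have hEq : (Curv2.euler k X (ShStab.twist X L E m) : ℚ) = (e : ℚ) + m * α := by
    have := euler_twist k hL hdim hE m
    rw [hα, he] at this
    exact_mod_cast this
  have hKq : (Curv2.euler k X (ShStab.twist X L K m) : ℚ) =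
      (Curv2.euler k X K : ℚ) + m * DecSh.mult k X L K := by
    exact_mod_cast euler_twist k hL hdim hK m
  have h1 : (DecSh.mult k X L K : ℚ) ≤ α := by
    exact_mod_cast hα ▸ mult_le_of_mono k hL hdim i hK hE
  have h2 : (0 : ℚ) ≤ DecSh.mult k X L K := by exact_mod_cast mult_nonneg k hL hdim hK
  rcases hm₀ m hm E hE hp (by omega) hS K i hi hK with h | h
  · left
    refine ⟨h, ?_⟩
    have hq : (h0 k (ShStab.twist X L K m) : ℚ) = Curv2.euler k X (ShStab.twist X L K m) := by
      exact_mod_cast h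
    rw [secTerm, hq, hKq, hEq]
    ring
  · right
    rw [secTerm, hEq]
    nlinarith [mul_le_mul_of_nonneg_left h (show (0 : ℚ) ≤ α from by exact_mod_cast hα0),
      mul_le_mul_of_nonneg_left (neg_abs_le (e : ℚ)) h2,
      mul_le_mul_of_nonneg_right h1 (abs_nonneg (e : ℚ))]

variable [AlgebraicGeometry.IsReduced X]

include k hL hdim hpure in
/-- The sectional sum of a semistable decoration is nonpositive, and vanishes only if exact. -/
theorem exists_sectional (δ : ℚ) (hδ : 0 < δ) (α e : ℤ) (a : ℕ) :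
    ∃ m₀ : ℕ, ∀ m, m₀ ≤ m → ∀ (E : X.Modules), Coh.IsCoh E → TorSh.IsTorsionFree E →
      DecSh.mult k X L E = α → Curv2.euler k X E = e → ∀ (b : ℕ) (D : X.Modules) (T : DecSh.TF E a b D),
        T.IsSemistable k L δ → ∀ 𝓕 : DecSh.WFilt E,
          (∀ i, Coh.IsCoh ((𝓕.piece i : Subobject E) : X.Modules)) →
          (∑ i, 𝓕.wt i * secTerm k L α E ((𝓕.piece i : Subobject E) : X.Modules) m) + δ * T.mu k L 𝓕 ≤ 0 ∧
          ((∑ i, 𝓕.wt i * secTerm k L α E ((𝓕.piece i : Subobject E) : X.Modules) m) + δ * T.mu k L 𝓕 = 0 →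
            ∀ i, (h0 k (ShStab.twist X L ((𝓕.piece i : Subobject E) : X.Modules) m) : ℤ) =
              Curv2.euler k X (ShStab.twist X L ((𝓕.piece i : Subobject E) : X.Modules) m)) := by
  obtain ⟨m₀, hm₀⟩ := exists_term_dichotomy k hL hdim α e ((e : ℚ) / α + δ * a) (δ * a + 1)
  refine ⟨m₀, fun m hm E hE htf hα he b D T hT 𝓕 hcoh => ?_⟩
  have hb := piece_bounds k hL hdim hpure hE htf 𝓕 hcoh
  have hd := fun i => hm₀ m hm E hE (pure1_of_torsionFree k hL hdim hpure htf) hα he
    (slopeLE_of_semistable k hL hdim hpure hE htf hα he T hδ hT) _ (𝓕.piece i).arrow inferInstance (hcoh i)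
  have hαq : (1 : ℚ) ≤ α := by
    have := hb ⟨0, 𝓕.t_pos⟩
    rw [hα] at this
    exact_mod_cast this.1.trans this.2
  have h := Dich.sum_le 𝓕 (DecSh.mult k X L E) (fun P => DecSh.mult k X L (P : X.Modules)) T.nv
    (Curv2.euler k X E : ℚ) (fun P => (Curv2.euler k X (P : X.Modules) : ℚ))
    (ok := fun P => Coh.IsCoh (P : X.Modules)) hcoh hb hδ.le hT
    (fun i => secTerm k L α E ((𝓕.piece i : Subobject E) : X.Modules) m) fun i => by
      rcases hd i with h | h
      · left
        rw [hα, he]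
        exact h.2
      · right
        rw [hα]
        refine lt_of_le_of_lt h ?_
        have : 0 ≤ δ * (a : ℚ) := by positivity
        nlinarith
  refine ⟨h.1, fun heq i => ?_⟩
  have hex := h.2 heq i
  rw [hα, he] at hex
  simp only [secTerm] at hex
  have h1 := euler_twist k hL hdim (hcoh i) m
  have h2 := euler_twist k hL hdim hE m
  rw [hα, he] at h2
  rw [h2] at hex
  push_cast at hex
  have h1q : (Curv2.euler k X (ShStab.twist X L ((𝓕.piece i : Subobject E) : X.Modules) m) : ℚ) =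
      (Curv2.euler k X ((𝓕.piece i : Subobject E) : X.Modules) : ℚ) +
        m * DecSh.mult k X L ((𝓕.piece i : Subobject E) : X.Modules) := by exact_mod_cast h1
  have h3 : (h0 k (ShStab.twist X L ((𝓕.piece i : Subobject E) : X.Modules) m) : ℚ) =
      Curv2.euler k X (ShStab.twist X L ((𝓕.piece i : Subobject E) : X.Modules) m) :=
    mul_left_cancel₀ (show (α : ℚ) ≠ 0 by linarith) (by linarith [congrArg (fun x => (α : ℚ) * x) h1q])
  exact_mod_cast h3

omit [AlgebraicGeometry.IsReduced X] in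
include k hL hdim in
/-- The sectional condition at a twist implies the numerical one. -/
theorem semistable_step {E : X.Modules} (hE : Coh.IsCoh E) {α e : ℤ} (hα : DecSh.mult k X L E = α)
    (he : Curv2.euler k X E = e) {D : X.Modules} {a b : ℕ} (T : DecSh.TF E a b D) {δ : ℚ} (hδ : 0 < δ)
    (𝓕 : DecSh.WFilt E) (hc : ∀ i, Coh.IsCoh ((𝓕.piece i : Subobject E) : X.Modules)) {m : ℕ}
    (h : (∑ i, 𝓕.wt i * secTerm k L α E ((𝓕.piece i : Subobject E) : X.Modules) m) + δ * T.mu k L 𝓕 ≤ 0) :
    𝓕.chiSum k L + δ * T.mu k L 𝓕 ≤ 0 := by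
  refine le_trans (add_le_add (Finset.sum_le_sum fun i _ => mul_le_mul_of_nonneg_left ?_ (𝓕.wt_pos i).le) le_rfl) h
  have h1 : (Curv2.euler k X (ShStab.twist X L ((𝓕.piece i : Subobject E) : X.Modules) m) : ℚ) ≤
      h0 k (ShStab.twist X L ((𝓕.piece i : Subobject E) : X.Modules) m) := by
    exact_mod_cast euler_le_h0 k hdim _
  have h2 := euler_twist k hL hdim (hc i) m
  have h3 := euler_twist k hL hdim hE m
  rw [h2] at h1
  rw [secTerm, h3, hα, he]
  push_cast at h1 ⊢
  have h4 : (0 : ℚ) ≤ α := by exact_mod_cast hα ▸ mult_nonneg k hL hdim hE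
  nlinarith [mul_le_mul_of_nonneg_left h1 h4]

omit [AlgebraicGeometry.IsReduced X] in
include k hL hdim in
/-- With vanishing first cohomology, the quotient sectional sum is the numerical one. -/
theorem quot_sum_eq {E : X.Modules} (hE : Coh.IsCoh E) {α e : ℤ} (hα : DecSh.mult k X L E = α)
    (he : Curv2.euler k X E = e) (𝓕 : DecSh.WFilt E)
    (hc : ∀ i, Coh.IsCoh ((𝓕.piece i : Subobject E) : X.Modules)) {m : ℕ}
    (h : Subsingleton (Coh.HH X (ShStab.twist X L E m) 1)) :
    (∑ i, 𝓕.wt i * ((DecSh.mult k X L (cokernel (𝓕.piece i).arrow) : ℚ) *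
        (Curv2.euler k X (ShStab.twist X L E m) : ℚ) -
      (α : ℚ) * (Module.finrank k (Coh.HH X (ShStab.twist X L (cokernel (𝓕.piece i).arrow) m) 0) : ℚ))) =
      𝓕.chiSum k L := by
  refine Finset.sum_congr rfl fun i _ => ?_
  have hQ := isCoh_of_monoCokernel (𝓕.piece i).arrow (hc i) hE
  have hv : Subsingleton (Coh.HH X (ShStab.twist X L (cokernel (𝓕.piece i).arrow) m) 1) :=
    BoundSS.subsingleton_right (shortExact_twist k hL (shortExact_of_mono (𝓕.piece i).arrow) m)
      (subsingleton_two k hdim _ le_rfl) h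
  have h1 : (h0 k (ShStab.twist X L (cokernel (𝓕.piece i).arrow) m) : ℚ) =
      Curv2.euler k X (ShStab.twist X L (cokernel (𝓕.piece i).arrow) m) := by
    exact_mod_cast h0_eq_euler k hdim _ hv
  have a1 := mult_mono k hL hdim (𝓕.piece i).arrow (hc i) hE
  have b1 := euler_mono k (𝓕.piece i).arrow (hc i) hE
  congr 1
  simp only [h0] at h1
  rw [h1, euler_twist k hL hdim hQ, euler_twist k hL hdim hE, hα, he]
  rw [hα] at a1
  rw [he] at b1
  push_cast [a1, b1]
  ring

end Groth.Agent.DecCurve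

end
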