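import Groth.Agent.DecCurve.Gen
import Groth.Agent.BoundSS.Vanish
import Groth.Agent.DecCurve.Bounded

/-!
# Uniform vanishing from a lower bound on Euler characteristics of quotients
-/

set_option autoImplicit false
set_option linter.style.haveILetI false

universe u

open CategoryTheory CategoryTheory.Limits AlgebraicGeometry
open Groth.Agent.HilbPolyX Groth.Agent.ShStabLib

noncomputable section

namespace Groth.Agent.DecCurve

attribute [local irreducible] Curv2.euler DecSh.mult

variable {X : Scheme.{u}} (k : Type u) [Field k] [X.Over (Spec (CommRingCat.of k))]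
  [IsProper (X ↘ Spec (CommRingCat.of k))] {L : X.Modules} (hL : CohB1.IsAmple L)
  (hdim : topologicalKrullDim X ≤ 1)

/-- The quotients of `G` have Euler characteristic at least `D`. -/
def QuotBound (D : ℤ) (G : X.Modules) : Prop :=
  ∀ (Q : X.Modules) (g : G ⟶ Q), Epi g → Coh.IsCoh Q → D ≤ Curv2.euler k X Q

omit [IsProper (X ↘ Spec (CommRingCat.of k))] in
theorem QuotBound.of_epi {D : ℤ} {G H : X.Modules} (h : QuotBound k D G) (g : G ⟶ H) [Epi g] :
    QuotBound k D H := fun Q f hf hQ => h Q (g ≫ f) (epi_comp g f) hQ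

variable {A : ℕ → X.Modules} (hA : BC.IsInvSys L A)

include hL hdim hA in
theorem exists_hom_ne_zero {G : X.Modules} (hG : Coh.IsCoh G) (n : ℕ)
    (h : 0 < Curv2.euler k X (ShStab.twist X L G n)) : ∃ φ : A n ⟶ G, φ ≠ 0 := by
  haveI := BC.finite_hom k hA hL.1 hG n
  have he : Curv2.euler k X (ShStab.twist X L G n) ≤
      (Module.finrank k (Coh.HH X (ShStab.twist X L G n) 0) : ℤ) := by
    rw [EulerChar.euler_eq_sum k (M := ShStab.twist X L G n) (t := 2)
      fun j hj => subsingleton_two k hdim _ hj]
    simp [Finset.sum_range_succ]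
  have hp : 0 < Module.finrank k (A n ⟶ G) := by
    rw [((BC.homEquiv k hA n G).trans (BC.secEquiv k _)).finrank_eq]
    exact Int.natCast_pos.1 (lt_of_lt_of_le h he)
  haveI := Module.nontrivial_of_finrank_pos hp
  exact exists_ne 0

include k hL hdim hA in
set_option maxHeartbeats 1600000 in
/-- One step of the induction. -/
theorem exists_step {G : X.Modules} (hG : Coh.IsCoh G) {n : ℕ} (φ : A n ⟶ G) (hφ : φ ≠ 0) :
    ∃ (Q : X.Modules) (g : G ⟶ Q), Epi g ∧ Coh.IsCoh Q ∧
      (DecSh.mult k X L Q < DecSh.mult k X L G ∨ (DecSh.mult k X L Q = DecSh.mult k X L G ∧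
        Curv2.euler k X Q < Curv2.euler k X G)) ∧
      ∀ m, Subsingleton (Coh.HH X (ShStab.twist X L (A n) m) 1) →
        GenBySec (ShStab.twist X L (A n) m) →
        Subsingleton (Coh.HH X (ShStab.twist X L Q m) 1) → GenBySec (ShStab.twist X L Q m) →
        Subsingleton (Coh.HH X (ShStab.twist X L G m) 1) ∧ GenBySec (ShStab.twist X L G m) := by
  haveI := EulerChar.isNoetherian k (X := X)
  have hIc : Coh.IsCoh (Abelian.image φ) := CohDev.isCoh_image φ (hA.coh n) hG.1
  have hI0 : ¬ IsZero (Abelian.image φ) := fun h0 => hφ (by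
    rw [← Abelian.image.fac φ, h0.eq_of_src (Abelian.image.ι φ) 0, comp_zero])
  refine ⟨_, cokernel.π (Abelian.image.ι φ), inferInstance, isCoh_of_monoCokernel _ hIc hG, ?_, ?_⟩
  · have h1 := mult_mono k hL hdim (Abelian.image.ι φ) hIc hG
    have h2 := euler_mono k (Abelian.image.ι φ) hIc hG
    rcases mult_pos_or_dim k hL hdim hIc with h | ⟨h, -⟩
    · left; omega
    · right
      have h3 := euler_pos k hL hdim hIc h hI0
      constructor <;> omega
  intro m hm hmg hq hqg
  haveI := BC.isEquivalence_twistF hA m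
  have hIm : Subsingleton (Coh.HH X ((twistF L m).obj (Abelian.image φ)) 1) :=
    BoundSS.subsingleton_right
      ((BoundSS.shortExact_epi (Abelian.factorThruImage φ)).map_of_exact (twistF L m))
      (subsingleton_two k hdim _ le_rfl) hm
  have hIg : GenBySec ((twistF L m).obj (Abelian.image φ)) :=
    GenBySec.of_epi (G := (twistF L m).obj (A n)) hmg ((twistF L m).map (Abelian.factorThruImage φ))
  exact ⟨BoundSS.subsingleton_mid
      ((BoundSS.shortExact_mono (Abelian.image.ι φ)).map_of_exact (twistF L m)) hIm hq,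
    genBySec_mid k ((BoundSS.shortExact_mono (Abelian.image.ι φ)).map_of_exact (twistF L m)) hIm hIg hqg⟩

include hL hdim in
/-- Uniform vanishing and generation. -/
theorem exists_uniform (D : ℤ) :
    ∃ m₀ : ℕ, ∀ G : X.Modules, Coh.IsCoh G → QuotBound k D G → ∀ m, m₀ ≤ m →
      Subsingleton (Coh.HH X (ShStab.twist X L G m) 1) ∧ GenBySec (ShStab.twist X L G m) := by
  haveI := EulerChar.isNoetherian k (X := X)
  obtain ⟨A, hA⟩ := BC.exists_invSys hL.1
  let a : ℕ := D.natAbs + 1
  obtain ⟨m₁, h₁⟩ := AmpCrit.SerreVan.serre_vanishing (X ↘ Spec (CommRingCat.of k)) hL (A a) (hA.coh a)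
  obtain ⟨m₂, h₂⟩ := AmpleLib.eventually_globallyGenerated hL (hA.coh a).1 (hA.coh a).2
  refine ⟨max m₁ m₂, fun G hG hq m hm => ?_⟩
  suffices H : ∀ (p q : ℕ) (G : X.Modules), Coh.IsCoh G → QuotBound k D G →
      (DecSh.mult k X L G).toNat = p → (Curv2.euler k X G - D).toNat = q →
      Subsingleton (Coh.HH X (ShStab.twist X L G m) 1) ∧ GenBySec (ShStab.twist X L G m) from
    H _ _ G hG hq rfl rfl
  intro p
  induction p using Nat.strong_induction_on with
  | _ p ihp =>
    intro q
    induction q using Nat.strong_induction_on with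
    | _ q ihq =>
      intro G hG hq hp hqq
      have hD : D ≤ Curv2.euler k X G := hq G (𝟙 G) inferInstance hG
      rcases (mult_nonneg k hL hdim hG).eq_or_lt with h0 | hpos
      · exact ⟨subsingleton_twist_of_mult_zero k hL hdim hG h0.symm m,
          genBySec_of_support k (isCoh_twist k hL.1 hG m)
            ((Topology.IsEmbedding.inclusion
              (support_tensorMod_subset G _)).isInducing.topologicalKrullDim_le.trans
              (dim_of_mult_eq_zero k hL hdim hG h0.symm))⟩
      have hχ : 0 < Curv2.euler k X (ShStab.twist X L G a) := by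
        rw [euler_twist k hL hdim hG]
        have h1 : (a : ℤ) ≤ (a : ℤ) * DecSh.mult k X L G :=
          le_mul_of_one_le_right (Nat.cast_nonneg _) hpos
        have h2 : (a : ℤ) = (D.natAbs : ℤ) + 1 := by simp [a]
        omega
      obtain ⟨φ, hφ⟩ := exists_hom_ne_zero k hL hdim hA hG a hχ
      obtain ⟨Q, g, hg, hQ, hlt, hstep⟩ := exists_step k hL hdim hA hG φ hφ
      have hqQ : QuotBound k D Q := QuotBound.of_epi k hq g
      have hDQ : D ≤ Curv2.euler k X Q := hqQ Q (𝟙 Q) inferInstance hQ
      have hQ0 := mult_nonneg k hL hdim hQ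
      have hrec : Subsingleton (Coh.HH X (ShStab.twist X L Q m) 1) ∧
          GenBySec (ShStab.twist X L Q m) := by
        rcases hlt with h | ⟨h, h'⟩
        · exact ihp _ (by omega) _ Q hQ hqQ rfl rfl
        · exact ihq _ (by omega) Q hQ hqQ (by omega) rfl
      exact hstep m (h₁ m (le_of_max_le_left hm) 1 one_pos)
        (genBySec_of_isGloballyGenerated (h₂ m (le_of_max_le_right hm))) hrec.1 hrec.2

include hL hdim in
/-- Boundedness from a lower bound on Euler characteristics of quotients. -/
theorem isBounded_of_quotBound (P : X.Modules → Prop) (α e D : ℤ)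
    (hP : ∀ F, P F → Coh.IsCoh F ∧ DecSh.mult k X L F = α ∧ Curv2.euler k X F = e ∧ QuotBound k D F) :
    Pic13.IsBounded k X P := by
  obtain ⟨m₀, h⟩ := exists_uniform k hL hdim D
  exact isBounded_of_vanish k hL hdim P α e m₀ fun F hF =>
    ⟨(hP F hF).1, (hP F hF).2.1, (hP F hF).2.2.1, fun m hm => (h F (hP F hF).1 (hP F hF).2.2.2 m hm).1⟩

include hL hdim in
/-- Boundedness from an upper bound on Euler characteristics of submodules. -/
theorem isBounded_of_subBound (P : X.Modules → Prop) (α e C : ℤ)
    (hP : ∀ F, P F → Coh.IsCoh F ∧ DecSh.mult k X L F = α ∧ Curv2.euler k X F = e ∧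
      ∀ (K : X.Modules) (i : K ⟶ F), Mono i → Coh.IsCoh K → Curv2.euler k X K ≤ C) :
    Pic13.IsBounded k X P :=
  isBounded_of_quotBound k hL hdim P α e (e - C) fun F hF => by
    obtain ⟨hFc, hα, he, hK⟩ := hP F hF
    refine ⟨hFc, hα, he, fun Q g hg hQ => ?_⟩
    have h1 := euler_epi k g hFc hQ
    have h2 := hK (kernel g) (kernel.ι g) inferInstance (isCoh_of_kernel k g hFc hQ)
    omega

end Groth.Agent.DecCurve

end
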